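import Groth.Prelude.Def_FibSite

/-! Factorization of morphisms in the total category of a fibred category. -/

set_option autoImplicit false
set_option backward.isDefEq.respectTransparency false
set_option backward.isDefEq.respectTransparency.types false

universe v₂ u₂ v₁ u₁

open CategoryTheory Bicategory Opposite Pseudofunctor Pseudofunctor.CoGrothendieck CategoryTheory.Functor

namespace Groth.Agent.FibSite16

variable {𝒮 : Type u₁} [Category.{v₁} 𝒮] {F : Pseudofunctor (LocallyDiscrete 𝒮ᵒᵖ) Cat.{v₂, u₂}}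

attribute [local simp] PrelaxFunctor.map₂_eqToHom

theorem exists_ι_map {S : 𝒮} {W U : F.obj ⟨op S⟩} (g : (ι F S).obj W ⟶ (ι F S).obj U) (h : g.base = 𝟙 S) :
    ∃ φ : W ⟶ U, (ι F S).map φ = g := by
  refine ⟨g.fiber ≫ eqToHom (by simp [h]; rfl) ≫ (F.mapId ⟨op S⟩).hom.toNatTrans.app U, ?_⟩
  ext
  · exact h.symm
  · simp [h, ← Cat.Hom₂.comp_app]

theorem ι_map_injective {S : 𝒮} {W U : F.obj ⟨op S⟩} {f g : W ⟶ U} (h : (ι F S).map f = (ι F S).map g) :
    f = g := by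
  simpa [cancel_mono, ← Cat.Hom.toNatIso_hom, ← Cat.Hom.toNatIso_inv] using ((Hom.ext_iff _ _).mp h).2

/-- The chosen cartesian morphism. -/
abbrev cart {R S : 𝒮} (U : F.obj ⟨op S⟩) (f : R ⟶ S) :
    (ι F R).obj ((FibSite.invImage F f).obj U) ⟶ (ι F S).obj U :=
  cartesianLift U f

theorem fac {R S : 𝒮} {V : F.obj ⟨op R⟩} {U : F.obj ⟨op S⟩} (g : (ι F R).obj V ⟶ (ι F S).obj U) :
    ∃ φ : V ⟶ (FibSite.invImage F g.base).obj U, (ι F R).map φ ≫ cart U g.base = g := by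
  haveI := isStronglyCartesian_homCartesianLift (F := F) U g.base
  haveI : (forget F).IsHomLift g.base g := IsHomLift.map (forget F) g
  obtain ⟨χ, ⟨hχ, hχg⟩, -⟩ := IsStronglyCartesian.universal_property (forget F) g.base
    (cartesianLift U g.base) (𝟙 R) g.base (Category.id_comp g.base).symm g
  have hb : χ.base = 𝟙 R := (IsHomLift.fac' (forget F) (𝟙 R) χ).trans (by simp; rfl)
  obtain ⟨φ, hφ⟩ := exists_ι_map χ hb
  exact ⟨φ, by rw [hφ]; exact hχg⟩

theorem base_ι_comp_cart {R S : 𝒮} {V : F.obj ⟨op R⟩} {U : F.obj ⟨op S⟩} (f : R ⟶ S)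
    (φ : V ⟶ (FibSite.invImage F f).obj U) : ((ι F R).map φ ≫ cart U f).base = f :=
  Category.id_comp f

theorem ι_comp_cart_injective {R S : 𝒮} {V : F.obj ⟨op R⟩} {U : F.obj ⟨op S⟩} (f : R ⟶ S)
    {φ φ' : V ⟶ (FibSite.invImage F f).obj U} (h : (ι F R).map φ ≫ cart U f = (ι F R).map φ' ≫ cart U f) :
    φ = φ' := by
  haveI := isStronglyCartesian_homCartesianLift (F := F) U f
  haveI : (forget F).IsHomLift (𝟙 R) ((ι F R).map φ) := IsHomLift.map (forget F) ((ι F R).map φ)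
  haveI : (forget F).IsHomLift (𝟙 R) ((ι F R).map φ') := IsHomLift.map (forget F) ((ι F R).map φ')
  exact ι_map_injective (IsStronglyCartesian.ext (forget F) f (cartesianLift U f) (𝟙 R) h)

theorem cart_naturality {R S : 𝒮} (f : R ⟶ S) {W U : F.obj ⟨op S⟩} (a : W ⟶ U) :
    cart W f ≫ (ι F S).map a = (ι F R).map ((FibSite.invImage F f).map a) ≫ cart U f := by
  ext
  · exact (Category.comp_id f).trans (Category.id_comp f).symm
  · simp only [Pseudofunctor.CoGrothendieck.categoryStruct_comp_fiber, ι_map_fiber]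
    show 𝟙 _ ≫ (F.map f.op.toLoc).toFunctor.map (a ≫ (F.mapId ⟨op S⟩).inv.toNatTrans.app U) ≫
          (F.mapComp (𝟙 (⟨op S⟩ : LocallyDiscrete 𝒮ᵒᵖ)) f.op.toLoc).inv.toNatTrans.app U =
      (((F.map f.op.toLoc).toFunctor.map a ≫
          (F.mapId ⟨op R⟩).inv.toNatTrans.app ((F.map f.op.toLoc).toFunctor.obj U)) ≫
          (F.map (𝟙 (⟨op R⟩ : LocallyDiscrete 𝒮ᵒᵖ))).toFunctor.map (𝟙 ((F.map f.op.toLoc).toFunctor.obj U)) ≫
          (F.mapComp f.op.toLoc (𝟙 (⟨op R⟩ : LocallyDiscrete 𝒮ᵒᵖ))).inv.toNatTrans.app U) ≫ eqToHom _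
    rw [F.mapComp_id_left_inv_app, F.mapComp_id_right_inv_app]
    simp [Strict.leftUnitor_eqToIso, Strict.rightUnitor_eqToIso, ← Functor.map_comp_assoc, ← Cat.Hom₂.comp_app]

theorem base_ι_map {S : 𝒮} {W U : F.obj ⟨op S⟩} (a : W ⟶ U) : ((ι F S).map a).base = 𝟙 S := rfl

end Groth.Agent.FibSite16
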