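import Mathlib.CategoryTheory.Sites.InducedTopology
import Mathlib.CategoryTheory.Sites.LocallyBijective
import Mathlib.CategoryTheory.Sites.ConcreteSheafification
import Mathlib.CategoryTheory.Limits.Types.Limits
import Mathlib.CategoryTheory.Limits.Types.Colimits
import Groth.Agent.FibSite16.Basic

/-! The covers and the sheaves of the total topology of a fibred site. -/

set_option autoImplicit false
set_option backward.isDefEq.respectTransparency false
set_option backward.isDefEq.respectTransparency.types false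

universe w v₃ u₃ v₂ u₂ v₁ u₁

open CategoryTheory Opposite Pseudofunctor Pseudofunctor.CoGrothendieck CategoryTheory.Functor CategoryTheory.Limits

namespace Groth.Agent.FibSite16

variable {𝒮 : Type u₁} [Category.{v₁} 𝒮] {F : Pseudofunctor (LocallyDiscrete 𝒮ᵒᵖ) Cat.{v₂, u₂}}
  {J : FibSite.Topologies F}

/-- The fibre part of a sieve of the total category. -/
abbrev fpart {S : 𝒮} {U : F.obj ⟨op S⟩} (T : Sieve ((ι F S).obj U)) : Sieve U :=
  T.functorPullback (ι F S)

variable (hF : FibSite.IsPreFibSite F J)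
include hF

theorem fpart_pullback_mem {R S : 𝒮} {V : F.obj ⟨op R⟩} {U : F.obj ⟨op S⟩} {T : Sieve ((ι F S).obj U)}
    (hT : fpart T ∈ J S U) (g : (ι F R).obj V ⟶ (ι F S).obj U) : fpart (T.pullback g) ∈ J R V := by
  obtain ⟨f, φ, hφ⟩ : ∃ (f : R ⟶ S) (φ : V ⟶ (FibSite.invImage F f).obj U),
      (ι F R).map φ ≫ cart U f = g := ⟨g.base, fac g⟩
  haveI := hF f
  have h1 := (CoverPreserving.of_isContinuous (FibSite.invImage F f) (J S) (J R)).cover_preserve hT
  refine (J R).superset_covering ?_ ((J R).pullback_stable φ h1)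
  intro W b hb
  obtain ⟨W', a, h, ha, e⟩ := hb
  show T ((ι F R).map b ≫ g)
  rw [← hφ, ← Category.assoc, ← Functor.map_comp, e, Functor.map_comp, Category.assoc, ← cart_naturality,
    ← Category.assoc]
  exact T.downward_closed ha _

/-- The topology whose covers are the sieves with covering fibre part. -/
def fibreTop : GrothendieckTopology (∫ᶜ F) where
  sieves X := Set.ofPred fun T : Sieve X => fpart (S := X.base) (U := X.fiber) T ∈ J X.base X.fiber
  top_mem' X := (J X.base).superset_covering (fun _ _ _ => trivial) ((J X.base).top_mem _)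
  pullback_stable' X Y T g hT := fpart_pullback_mem hF hT g
  transitive' X T hT R hR := (J X.base).transitive hT _ fun W a ha => by
    refine (J X.base).superset_covering ?_ (hR ha)
    intro W' b hb
    show R ((ι F X.base).map (b ≫ a))
    rw [Functor.map_comp]
    exact hb

theorem totalTopology_eq : FibSite.totalTopology F J = fibreTop hF := by
  refine le_antisymm (FibSite.totalTopology_le fun S U R hR => ?_) fun X T hT => ?_
  · show fpart (Sieve.functorPushforward (ι F S) R) ∈ J S U
    exact (J S).superset_covering (Sieve.le_functorPushforward_pullback (ι F S) R) hR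
  · exact (FibSite.totalTopology F J).superset_covering
      (Sieve.functorPullback_pushforward_le (ι F X.base) T)
      (FibSite.functorPushforward_mem_totalTopology (S := X.base) (U := X.fiber) hT)

theorem mem_iff (X : ∫ᶜ F) (T : Sieve X) :
    T ∈ FibSite.totalTopology F J X ↔ fpart (S := X.base) (U := X.fiber) T ∈ J X.base X.fiber := by
  rw [totalTopology_eq hF]; rfl

theorem cocontinuous (S : 𝒮) : (ι F S).IsCocontinuous (J S) (FibSite.totalTopology F J) :=
  ⟨fun {U T} hT => (mem_iff hF ((ι F S).obj U) T).1 hT⟩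

/-- A presheaf which is a sheaf on every fibre is a sheaf. -/
theorem isSheaf_of_fibres {P : (∫ᶜ F)ᵒᵖ ⥤ Type w}
    (h : ∀ S, Presieve.IsSheaf (J S) ((ι F S).op ⋙ P)) : Presieve.IsSheaf (FibSite.totalTopology F J) P := by
  intro X T hT
  have hR := (mem_iff hF X T).1 hT
  rw [← Presieve.isSeparatedFor_and_exists_isAmalgamation_iff_isSheafFor]
  refine ⟨fun x t₁ t₂ e₁ e₂ => ?_, fun x hx => ?_⟩
  · exact ((h X.base) _ hR).isSeparatedFor.ext fun W a ha => (e₁ _ ha).trans (e₂ _ ha).symm
  · let y : Presieve.FamilyOfElements ((ι F X.base).op ⋙ P)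
        (fpart (S := X.base) (U := X.fiber) T).arrows := fun W a ha => x ((ι F X.base).map a) ha
    have hy : y.Compatible := fun W₁ W₂ Z g₁ g₂ f₁ f₂ m₁ m₂ e =>
      hx ((ι F X.base).map g₁) ((ι F X.base).map g₂) m₁ m₂
        (by rw [← Functor.map_comp, e, Functor.map_comp])
    refine ⟨((h X.base) _ hR).amalgamate y hy, fun Z g hg => ?_⟩
    let T₀ : Sieve X := Sieve.functorPushforward (ι F X.base) (fpart (S := X.base) (U := X.fiber) T)
    have hT₀ : fpart (S := X.base) (U := X.fiber) T₀ ∈ J X.base X.fiber :=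
      (J X.base).superset_covering (Sieve.le_functorPushforward_pullback (ι F X.base) _) hR
    have hcov := fpart_pullback_mem hF (R := Z.base) (V := Z.fiber) (S := X.base) (U := X.fiber) hT₀ g
    refine ((h Z.base) _ hcov).isSeparatedFor.ext fun W b hb => ?_
    obtain ⟨W', a, k, ha, e⟩ := hb
    show P.map ((ι F Z.base).map b).op (P.map g.op _) = P.map ((ι F Z.base).map b).op (x g hg)
    refine (Functor.map_comp_apply P _ _ _).symm.trans ?_
    refine (congrArg (fun q => P.map q.op _) e).trans ?_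
    refine (Functor.map_comp_apply P _ _ _).trans ?_
    have h1 : P.map ((ι F X.base).map a).op (((h X.base) _ hR).amalgamate y hy) = x ((ι F X.base).map a) ha :=
      Presieve.IsSheafFor.valid_glue _ hy a ha
    exact (congrArg (P.map k.op) h1).trans (hx k ((ι F Z.base).map b) ha hg e.symm)

/-- The fibre inclusions are continuous. -/
theorem continuous (S : 𝒮) : (ι F S).IsContinuous (J S) (FibSite.totalTopology F J) := by
  refine ⟨fun G => ?_⟩
  let P := G.obj
  have hG : Presieve.IsSheaf (FibSite.totalTopology F J) P := (isSheaf_iff_isSheaf_of_type _ _).1 G.property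
  have sep : ∀ T : 𝒮, Presieve.IsSeparated (J T) ((ι F T).op ⋙ P) := by
    intro T U R hR x t₁ t₂ e₁ e₂
    refine (hG _ (FibSite.functorPushforward_mem_totalTopology hR)).isSeparatedFor.ext fun Z g hg => ?_
    obtain ⟨W, a, k, ha, rfl⟩ := hg
    rw [op_comp, Functor.map_comp_apply, Functor.map_comp_apply]
    exact congrArg (P.map k.op) ((e₁ a ha).trans (e₂ a ha).symm)
  intro U R hR
  rw [← Presieve.isSeparatedFor_and_exists_isAmalgamation_iff_isSheafFor]
  refine ⟨sep S R hR, fun x hx => ?_⟩
  have indep : ∀ (T : 𝒮) (V : F.obj ⟨op T⟩) (W₁ W₂ : F.obj ⟨op S⟩) (a₁ : W₁ ⟶ U) (a₂ : W₂ ⟶ U)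
      (m₁ : R a₁) (m₂ : R a₂) (k₁ : (ι F T).obj V ⟶ (ι F S).obj W₁) (k₂ : (ι F T).obj V ⟶ (ι F S).obj W₂),
      k₁ ≫ (ι F S).map a₁ = k₂ ≫ (ι F S).map a₂ → P.map k₁.op (x a₁ m₁) = P.map k₂.op (x a₂ m₂) := by
    intro T V W₁ W₂ a₁ a₂ m₁ m₂ k₁ k₂ e
    have hb := congrArg Pseudofunctor.CoGrothendieck.Hom.base e
    have hb' : k₁.base = k₂.base :=
      (Category.comp_id _).symm.trans (hb.trans (Category.comp_id _))
    obtain ⟨f, ⟨φ₁, hφ₁⟩, ⟨φ₂, hφ₂⟩⟩ : ∃ f : T ⟶ S,
        (∃ φ : V ⟶ (FibSite.invImage F f).obj W₁, (ι F T).map φ ≫ cart W₁ f = k₁) ∧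
        (∃ φ : V ⟶ (FibSite.invImage F f).obj W₂, (ι F T).map φ ≫ cart W₂ f = k₂) :=
      ⟨k₁.base, fac k₁, hb'.symm ▸ fac k₂⟩
    rw [← hφ₁, ← hφ₂, Category.assoc, Category.assoc, cart_naturality, cart_naturality, ← Category.assoc,
      ← Category.assoc, ← Functor.map_comp, ← Functor.map_comp] at e
    have e' := ι_comp_cart_injective f e
    haveI := hF f
    let Q : (F.obj ⟨op T⟩)ᵒᵖ ⥤ Type _ := (ι F T).op ⋙ P
    have hsep : ∀ (X : F.obj ⟨op T⟩) (C : (J T).Cover X) (q₁ q₂ : Q.obj (op X)),
        (∀ I : C.Arrow, Q.map I.f.op q₁ = Q.map I.f.op q₂) → q₁ = q₂ := fun X C q₁ q₂ hq =>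
      ((sep T) _ C.2).ext fun Z c hc => hq ⟨Z, c, hc⟩
    let η := (J T).toPlus Q
    have hinj : Function.Injective (η.app (op V)) := GrothendieckTopology.Plus.inj_of_sep Q hsep V
    let SQ : Sheaf (J T) (Type _) := ⟨(J T).plusObj Q, GrothendieckTopology.Plus.isSheaf_of_sep Q hsep⟩
    have hS' : Presieve.IsSheaf (J S) ((FibSite.invImage F f).op ⋙ SQ.obj) :=
      Functor.op_comp_isSheaf_of_types (FibSite.invImage F f) (J S) (J T) SQ
    let y : Presieve.FamilyOfElements ((FibSite.invImage F f).op ⋙ SQ.obj) R.arrows := fun W a ha =>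
      η.app (op ((FibSite.invImage F f).obj W)) (P.map (cart W f).op (x a ha))
    have hy : y.Compatible := by
      intro Y₁ Y₂ Z g₁ g₂ f₁ f₂ n₁ n₂ eq
      show SQ.obj.map ((FibSite.invImage F f).map g₁).op _ = SQ.obj.map ((FibSite.invImage F f).map g₂).op _
      refine (NatTrans.naturality_apply η _ _).symm.trans (Eq.trans ?_ (NatTrans.naturality_apply η _ _))
      refine congrArg (η.app _) ?_
      show P.map ((ι F T).map ((FibSite.invImage F f).map g₁)).op (P.map (cart Y₁ f).op _) =
        P.map ((ι F T).map ((FibSite.invImage F f).map g₂)).op (P.map (cart Y₂ f).op _)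
      rw [← Functor.map_comp_apply, ← Functor.map_comp_apply, ← op_comp, ← op_comp, ← cart_naturality,
        ← cart_naturality, op_comp, op_comp, Functor.map_comp_apply, Functor.map_comp_apply]
      exact congrArg (P.map (cart Z f).op) (hx g₁ g₂ n₁ n₂ eq)
    have key : ∀ (W : F.obj ⟨op S⟩) (a : W ⟶ U) (ha : R a) (φ : V ⟶ (FibSite.invImage F f).obj W),
        η.app (op V) (P.map ((ι F T).map φ ≫ cart W f).op (x a ha)) =
          SQ.obj.map (φ ≫ (FibSite.invImage F f).map a).op ((hS' R hR).amalgamate y hy) := by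
      intro W a ha φ
      rw [op_comp, op_comp, Functor.map_comp_apply, Functor.map_comp_apply]
      exact (NatTrans.naturality_apply η φ.op _).trans
        (congrArg (SQ.obj.map φ.op) (Presieve.IsSheafFor.valid_glue (hS' R hR) hy a ha).symm)
    apply hinj
    rw [← hφ₁, ← hφ₂, key _ a₁ m₁ φ₁, key _ a₂ m₂ φ₂, e']
  let T' : Sieve ((ι F S).obj U) := R.functorPushforward (ι F S)
  let y : Presieve.FamilyOfElements P T'.arrows := fun Z g hg =>
    P.map hg.choose_spec.choose_spec.choose.op (x _ hg.choose_spec.choose_spec.choose_spec.1)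
  have hy : y.Compatible := by
    intro Y₁ Y₂ Z g₁ g₂ f₁ f₂ n₁ n₂ e
    show P.map g₁.op (P.map _ _) = P.map g₂.op (P.map _ _)
    rw [← Functor.map_comp_apply, ← Functor.map_comp_apply, ← op_comp, ← op_comp]
    refine indep Z.base Z.fiber _ _ _ _ _ _ _ _ ?_
    rw [Category.assoc, Category.assoc, ← n₁.choose_spec.choose_spec.choose_spec.2,
      ← n₂.choose_spec.choose_spec.choose_spec.2, e]
  refine ⟨(hG _ (FibSite.functorPushforward_mem_totalTopology hR)).amalgamate y hy, fun W a ha => ?_⟩
  have hmem : T' ((ι F S).map a) := ⟨W, a, 𝟙 _, ha, (Category.id_comp _).symm⟩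
  refine (Presieve.IsSheafFor.valid_glue _ hy _ hmem).trans ?_
  refine (indep S W _ W _ a hmem.choose_spec.choose_spec.choose_spec.1 ha _ (𝟙 _) ?_).trans (by simp)
  rw [← hmem.choose_spec.choose_spec.choose_spec.2, Category.id_comp]

theorem isSheaf_iff {A : Type u₃} [Category.{v₃} A] (P : (∫ᶜ F)ᵒᵖ ⥤ A) :
    Presheaf.IsSheaf (FibSite.totalTopology F J) P ↔
      ∀ S : 𝒮, Presheaf.IsSheaf (J S) ((ι F S).op ⋙ P) := by
  refine ⟨fun h S => ?_, fun h E => isSheaf_of_fibres hF fun S => h S E⟩
  haveI := continuous hF S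
  exact Functor.op_comp_isSheaf_of_isSheaf (ι F S) (J S) (FibSite.totalTopology F J) P h

theorem inducedTopology_eq (S : 𝒮) : (ι F S).inducedTopology (FibSite.totalTopology F J) = J S := by
  refine le_antisymm (Functor.inducedTopology_le_restrictedTopology.trans ?_)
    (Functor.le_inducedTopology_iff.2 (continuous hF S))
  rw [Functor.restrictedTopology, Precoverage.toGrothendieck_le_iff_le_toPrecoverage]
  intro U R hR
  rw [GrothendieckTopology.mem_toPrecoverage_iff]
  have hR' : Sieve.generate (R.map (ι F S)) ∈ FibSite.totalTopology F J ((ι F S).obj U) := hR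
  rw [Sieve.generate_map_eq_functorPushforward] at hR'
  have hR'' : fpart (Sieve.functorPushforward (ι F S) (Sieve.generate R)) ∈ J S U := (mem_iff hF _ _).1 hR'
  refine (J S).superset_covering ?_ hR''
  intro W b hb
  obtain ⟨W', a, k, ha, e⟩ := hb
  have hk : k.base = 𝟙 S := by
    have := congrArg Pseudofunctor.CoGrothendieck.Hom.base e
    exact (Category.comp_id _).symm.trans this.symm
  obtain ⟨ψ, rfl⟩ := exists_ι_map k hk
  rw [← Functor.map_comp] at e
  rw [ι_map_injective e]
  exact (Sieve.generate R).downward_closed ha ψ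

theorem continuous_iff {D : Type u₃} [Category.{v₃} D] (K : GrothendieckTopology D) (m : ∫ᶜ F ⥤ D) :
    m.IsContinuous (FibSite.totalTopology F J) K ↔ ∀ S : 𝒮, (ι F S ⋙ m).IsContinuous (J S) K := by
  refine ⟨fun h S => ?_, fun h => ⟨fun G => isSheaf_of_fibres hF fun S => ?_⟩⟩
  · haveI := continuous hF S
    exact Functor.isContinuous_comp (ι F S) m (J S) (FibSite.totalTopology F J) K
  · haveI := h S
    exact Functor.op_comp_isSheaf_of_types (ι F S ⋙ m) (J S) K G

end Groth.Agent.FibSite16
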