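import Mathlib.CategoryTheory.Adjunction.Triple
import Mathlib.CategoryTheory.Sites.Pullback
import Mathlib.CategoryTheory.Sites.Limits
import Mathlib.CategoryTheory.Limits.Shapes.Products
import Mathlib.CategoryTheory.Limits.Preserves.Finite
import Groth.Agent.FibSite16.Topology

/-! The adjoints of the restriction to a fibre, evaluated on another fibre. -/

set_option autoImplicit false
set_option backward.isDefEq.respectTransparency false
set_option backward.isDefEq.respectTransparency.types false

universe u

open CategoryTheory Opposite Pseudofunctor Pseudofunctor.CoGrothendieck CategoryTheory.Functor CategoryTheory.Limits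

namespace Groth.Agent.FibSite16

variable {𝒮 : Type u} [SmallCategory 𝒮] {F : Pseudofunctor (LocallyDiscrete 𝒮ᵒᵖ) Cat.{u, u}}
  {J : FibSite.Topologies F}

/-- Base morphisms out of a terminal object are unique, so the fibre inclusion is fully faithful. -/
theorem ι_full {i : 𝒮} (hi : IsTerminal i) : (ι F i).Full :=
  ⟨fun g => exists_ι_map g (hi.hom_ext _ _)⟩

theorem ι_faithful (i : 𝒮) : (ι F i).Faithful := ⟨fun h => ι_map_injective h⟩

theorem extend_fullyFaithful (hF : FibSite.IsPreFibSite F J) {i : 𝒮} (hi : IsTerminal i)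
    [(ι F i).IsContinuous (J i) (FibSite.totalTopology F J)]
    [((ι F i).sheafPushforwardContinuous (Type u) (J i) (FibSite.totalTopology F J)).IsRightAdjoint] :
    (FibSite.extend F J (Type u) i).Full ∧ (FibSite.extend F J (Type u) i).Faithful := by
  haveI := ι_full (F := F) hi
  haveI := ι_faithful (F := F) i
  haveI := cocontinuous hF i
  let adj₁ := (ι F i).sheafAdjunctionContinuous (Type u) (J i) (FibSite.totalTopology F J)
  let adj₂ := (ι F i).sheafAdjunctionCocontinuous (Type u) (J i) (FibSite.totalTopology F J)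
  haveI : ∀ a, IsIso (adj₂.counit.app a) := fun a => by
    haveI : IsIso ((sheafToPresheaf (J i) (Type u)).map (adj₂.counit.app a)) := by
      show IsIso (adj₂.counit.app a).hom
      rw [Functor.sheafAdjunctionCocontinuous_counit_app_hom]
      infer_instance
    exact isIso_of_reflects_iso _ (sheafToPresheaf (J i) (Type u))
  haveI : IsIso adj₂.counit := NatIso.isIso_of_isIso_app _
  let t : CategoryTheory.Adjunction.Triple (FibSite.extend F J (Type u) i) (FibSite.restr F J (Type u) i)
      (FibSite.coextend F J (Type u) i) := ⟨adj₁, adj₂⟩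
  exact ⟨(t.fullyFaithfulEquiv.symm adj₂.fullyFaithfulROfIsIsoCounit).full,
    (t.fullyFaithfulEquiv.symm adj₂.fullyFaithfulROfIsIsoCounit).faithful⟩

section Transport

variable {i j : 𝒮} (f : i ⟶ j) [(ι F i).IsContinuous (J i) (FibSite.totalTopology F J)]
  [(ι F j).IsContinuous (J j) (FibSite.totalTopology F J)] [(FibSite.invImage F f).IsContinuous (J j) (J i)]

/-- Restriction of the sections along the chosen cartesian morphisms. -/
noncomputable def θ : FibSite.restr F J (Type u) j ⟶
    FibSite.restr F J (Type u) i ⋙ (FibSite.invImage F f).sheafPushforwardContinuous (Type u) (J j) (J i) where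
  app G := ⟨{
    app := fun U => G.obj.map (cart U.unop f).op
    naturality := fun U V a => by
      show G.obj.map ((ι F j).map a.unop).op ≫ G.obj.map (cart V.unop f).op =
        G.obj.map (cart U.unop f).op ≫ G.obj.map ((ι F i).map ((FibSite.invImage F f).map a.unop)).op
      rw [← Functor.map_comp, ← Functor.map_comp, ← op_comp, ← op_comp, cart_naturality] }⟩
  naturality G G' m := by
    apply Sheaf.hom_ext
    ext U x
    exact (NatTrans.naturality_apply m.hom (cart U.unop f).op x).symm

variable [(ι F i).IsCocontinuous (J i) (FibSite.totalTopology F J)]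
  [∀ (P : (F.obj ⟨op i⟩)ᵒᵖ ⥤ Type u), (ι F i).op.HasPointwiseRightKanExtension P]

/-- The projection of the restricted coextension. -/
noncomputable def proj (a : Sheaf (J i) (Type u)) :
    (FibSite.restr F J (Type u) j).obj ((FibSite.coextend F J (Type u) i).obj a) ⟶
      ((FibSite.invImage F f).sheafPushforwardContinuous (Type u) (J j) (J i)).obj a :=
  (θ f).app ((FibSite.coextend F J (Type u) i).obj a) ≫
    ((FibSite.invImage F f).sheafPushforwardContinuous (Type u) (J j) (J i)).map
      (((ι F i).sheafAdjunctionCocontinuous (Type u) (J i) (FibSite.totalTopology F J)).counit.app a)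

theorem proj_app (a : Sheaf (J i) (Type u)) (U : (F.obj ⟨op j⟩)ᵒᵖ)
    (z : (((ι F i).op.ran).obj a.obj).obj (op ((ι F j).obj U.unop))) :
    (proj f a).hom.app U z = ((ι F i).op.ranCounit.app a.obj).app (op ((FibSite.invImage F f).obj U.unop))
      ((((ι F i).op.ran).obj a.obj).map (cart U.unop f).op z) := by
  show (((ι F i).sheafAdjunctionCocontinuous (Type u) (J i) (FibSite.totalTopology F J)).counit.app a).hom.app _
    ((((ι F i).op.ran).obj a.obj).map (cart U.unop f).op z) = _
  rw [Functor.sheafAdjunctionCocontinuous_counit_app_hom, Functor.ranAdjunction_counit]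
  rfl

end Transport

section Product

variable {i j : 𝒮} [∀ S : 𝒮, (ι F S).IsContinuous (J S) (FibSite.totalTopology F J)]
  [(ι F i).IsCocontinuous (J i) (FibSite.totalTopology F J)]
  [∀ (P : (F.obj ⟨op i⟩)ᵒᵖ ⥤ Type u), (ι F i).op.HasPointwiseRightKanExtension P]
  [∀ (R S : 𝒮) (f : R ⟶ S), (FibSite.invImage F f).IsContinuous (J S) (J R)]

theorem proj_bijective (a : Sheaf (J i) (Type u)) (U : (F.obj ⟨op j⟩)ᵒᵖ) :
    Function.Bijective
      (fun (z : (((ι F i).op.ran).obj a.obj).obj (op ((ι F j).obj U.unop))) (f : i ⟶ j) => (proj f a).hom.app U z) := by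
  let ε := (ι F i).op.ranCounit.app a.obj
  let hc := (ι F i).op.isPointwiseRightKanExtensionRanCounit a.obj (op ((ι F j).obj U.unop))
  have hπ : ∀ (g : StructuredArrow (op ((ι F j).obj U.unop)) (ι F i).op) (f : i ⟶ j)
      (ψ : g.right.unop ⟶ (FibSite.invImage F f).obj U.unop), (ι F i).map ψ ≫ cart U.unop f = g.hom.unop →
      ∀ z, ((RightExtension.mk _ ε).coneAt _).π.app g z = a.obj.map ψ.op ((proj f a).hom.app U z) := by
    intro g f ψ hψ z
    rw [proj_app]
    show ε.app g.right ((((ι F i).op.ran).obj a.obj).map g.hom z) = _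
    have hg : g.hom = (cart U.unop f).op ≫ ((ι F i).map ψ).op := (congrArg Quiver.Hom.op hψ).symm
    rw [hg, Functor.map_comp_apply]
    exact NatTrans.naturality_apply ε ψ.op _
  refine ⟨fun z z' h => ?_, fun y => ?_⟩
  · refine Concrete.isLimit_ext _ hc z z' fun g => ?_
    obtain ⟨φ, hφ⟩ := fac (R := i) (V := g.right.unop) g.hom.unop
    exact (hπ g _ φ hφ z).trans ((congrArg (a.obj.map φ.op) (congrFun h _)).trans (hπ g _ φ hφ z').symm)
  · let s : ∀ g : StructuredArrow (op ((ι F j).obj U.unop)) (ι F i).op, a.obj.obj g.right := fun g =>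
      a.obj.map (fac (R := i) (V := g.right.unop) g.hom.unop).choose.op (y g.hom.unop.base)
    have hs : ∀ (g : StructuredArrow (op ((ι F j).obj U.unop)) (ι F i).op) (f : i ⟶ j)
        (ψ : g.right.unop ⟶ (FibSite.invImage F f).obj U.unop), (ι F i).map ψ ≫ cart U.unop f = g.hom.unop →
        s g = a.obj.map ψ.op (y f) := by
      intro g f ψ hψ
      have hb : g.hom.unop.base = f := (congrArg Pseudofunctor.CoGrothendieck.Hom.base hψ).symm.trans
        (base_ι_comp_cart f ψ)
      subst hb
      show a.obj.map _ _ = _
      rw [ι_comp_cart_injective g.hom.unop.base (φ' := ψ)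
        ((fac (R := i) (V := g.right.unop) g.hom.unop).choose_spec.trans hψ.symm)]
    have hsec : s ∈ (StructuredArrow.proj (op ((ι F j).obj U.unop)) (ι F i).op ⋙ a.obj).sections := by
      intro g g' m
      obtain ⟨φ, hφ⟩ := fac (R := i) (V := g.right.unop) g.hom.unop
      have hψ : (ι F i).map (m.right.unop ≫ φ) ≫ cart U.unop g.hom.unop.base = g'.hom.unop := by
        rw [Functor.map_comp, Category.assoc, hφ]
        exact congrArg Quiver.Hom.unop (StructuredArrow.w m)
      rw [hs g _ φ hφ, hs g' _ _ hψ, op_comp, Functor.map_comp_apply]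
      rfl
    refine ⟨(Types.isLimitEquivSections hc).symm ⟨s, hsec⟩, funext fun f => ?_⟩
    let g₀ : StructuredArrow (op ((ι F j).obj U.unop)) (ι F i).op :=
      StructuredArrow.mk (Y := op ((FibSite.invImage F f).obj U.unop)) (cart U.unop f).op
    have h1 := hπ g₀ f (𝟙 _) ((congrArg (· ≫ cart U.unop f) ((ι F i).map_id _)).trans (Category.id_comp _))
      ((Types.isLimitEquivSections hc).symm ⟨s, hsec⟩)
    have h2 := hs g₀ f (𝟙 _) ((congrArg (· ≫ cart U.unop f) ((ι F i).map_id _)).trans (Category.id_comp _))
    rw [op_id] at h1 h2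
    exact ((h1.trans (ConcreteCategory.congr_hom (a.obj.map_id _) _)).symm.trans
      (Types.isLimitEquivSections_symm_apply hc ⟨s, hsec⟩ g₀)).trans
        (h2.trans (ConcreteCategory.congr_hom (a.obj.map_id _) _))

/-- The fan of the projections. -/
noncomputable abbrev fan (a : Sheaf (J i) (Type u)) :
    Fan fun f : i ⟶ j => ((FibSite.invImage F f).sheafPushforwardContinuous (Type u) (J j) (J i)).obj a :=
  Fan.mk ((FibSite.restr F J (Type u) j).obj ((FibSite.coextend F J (Type u) i).obj a)) fun f => proj f a

theorem exists_isLimit_fan (a : Sheaf (J i) (Type u)) : Nonempty (IsLimit (fan (j := j) a)) := by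
  let B := fun U => Equiv.ofBijective _ (proj_bijective (j := j) a U)
  have hB : ∀ (U : (F.obj ⟨op j⟩)ᵒᵖ)
      (y : ∀ f : i ⟶ j, (((FibSite.invImage F f).sheafPushforwardContinuous (Type u) (J j) (J i)).obj a).obj.obj U)
      (f : i ⟶ j), (proj f a).hom.app U ((B U).symm y) = y f :=
    fun U y f => congrFun ((B U).apply_symm_apply y) f
  refine ⟨Fan.IsLimit.mk _
    (fun p => ⟨{
      app := fun U => ↾(fun z => (B U).symm fun f => (p.proj f).hom.app U z)
      naturality := fun U V m => ?_ }⟩)
    (fun p f => ?_) (fun p l hl => ?_)⟩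
  · ext z
    refine (proj_bijective (j := j) a V).1 (funext fun f => ?_)
    refine (hB V _ f).trans ((NatTrans.naturality_apply (p.proj f).hom m z).trans ?_)
    refine Eq.trans ?_ (NatTrans.naturality_apply (proj f a).hom m _).symm
    exact congrArg _ (hB U (fun f => (p.proj f).hom.app U z) f).symm
  · apply Sheaf.hom_ext
    ext U z
    exact hB U (fun f => (p.proj f).hom.app U z) f
  · apply Sheaf.hom_ext
    ext U z
    refine (proj_bijective (j := j) a U).1 (funext fun f => ?_)
    refine Eq.trans ?_ (hB U (fun f => (p.proj f).hom.app U z) f).symm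
    exact ConcreteCategory.congr_hom (NatTrans.congr_app (congrArg (fun t => t.hom) (hl f)) U) z

end Product

section Coproduct

variable {i j : 𝒮} [∀ S : 𝒮, (ι F S).IsContinuous (J S) (FibSite.totalTopology F J)]
  [((ι F i).sheafPushforwardContinuous (Type u) (J i) (FibSite.totalTopology F J)).IsRightAdjoint]
  [∀ (R S : 𝒮) (f : R ⟶ S), (FibSite.invImage F f).IsContinuous (J S) (J R)]
  [∀ (R S : 𝒮) (f : R ⟶ S),
      ((FibSite.invImage F f).sheafPushforwardContinuous (Type u) (J S) (J R)).IsRightAdjoint]

/-- The component of the extension indexed by a base morphism, transposed. -/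
noncomputable def inj' (f : j ⟶ i) (a : Sheaf (J i) (Type u)) :
    a ⟶ ((FibSite.invImage F f).sheafPushforwardContinuous (Type u) (J i) (J j)).obj
      ((FibSite.restr F J (Type u) j).obj ((FibSite.extend F J (Type u) i).obj a)) :=
  ((ι F i).sheafAdjunctionContinuous (Type u) (J i) (FibSite.totalTopology F J)).unit.app a ≫
    (θ f).app ((FibSite.extend F J (Type u) i).obj a)

/-- The component of the extension indexed by a base morphism. -/
noncomputable def inj (f : j ⟶ i) (a : Sheaf (J i) (Type u)) :
    ((FibSite.invImage F f).sheafPullback (Type u) (J i) (J j)).obj a ⟶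
      (FibSite.restr F J (Type u) j).obj ((FibSite.extend F J (Type u) i).obj a) :=
  (((FibSite.invImage F f).sheafAdjunctionContinuous (Type u) (J i) (J j)).homEquiv _ _).symm (inj' f a)

/-- The natural transformation with components `inj`. -/
noncomputable def injNat (f : j ⟶ i) : (FibSite.invImage F f).sheafPullback (Type u) (J i) (J j) ⟶
    FibSite.extend F J (Type u) i ⋙ FibSite.restr F J (Type u) j where
  app a := inj f a
  naturality a b g := by
    apply (((FibSite.invImage F f).sheafAdjunctionContinuous (Type u) (J i) (J j)).homEquiv _ _).injective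
    rw [Adjunction.homEquiv_naturality_left, Adjunction.homEquiv_naturality_right, inj, inj]
    refine Eq.trans (congrArg (g ≫ ·) (Equiv.apply_symm_apply _ _))
      (Eq.trans ?_ (congrArg (· ≫ _) (Equiv.apply_symm_apply _ _)).symm)
    rw [inj', inj']
    have h1 := ((ι F i).sheafAdjunctionContinuous (Type u) (J i) (FibSite.totalTopology F J)).unit.naturality g
    have h2 := (θ (F := F) (J := J) f).naturality ((FibSite.extend F J (Type u) i).map g)
    refine ((Category.assoc _ _ _).symm.trans (congrArg (· ≫ _) h1)).trans ?_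
    refine (Category.assoc _ _ _).trans ((congrArg (_ ≫ ·) h2).trans (Category.assoc _ _ _).symm)

theorem exists_isColimit_cofan (hF : FibSite.IsPreFibSite F J) (a : Sheaf (J i) (Type u)) :
    Nonempty (IsColimit (Cofan.mk ((FibSite.restr F J (Type u) j).obj ((FibSite.extend F J (Type u) i).obj a))
      (fun f : j ⟶ i => inj f a))) := by
  haveI := cocontinuous hF j
  let adjE := (ι F i).sheafAdjunctionContinuous (Type u) (J i) (FibSite.totalTopology F J)
  let adjC := (ι F j).sheafAdjunctionCocontinuous (Type u) (J j) (FibSite.totalTopology F J)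
  let adjF := fun f : j ⟶ i => (FibSite.invImage F f).sheafAdjunctionContinuous (Type u) (J i) (J j)
  let e := fun b => (adjC.homEquiv ((FibSite.extend F J (Type u) i).obj a) b).trans
    (adjE.homEquiv a ((FibSite.coextend F J (Type u) j).obj b))
  have key : ∀ (b) (m : (FibSite.restr F J (Type u) j).obj ((FibSite.extend F J (Type u) i).obj a) ⟶ b) (f : j ⟶ i),
      e b m ≫ proj f b = (adjF f).homEquiv a b (inj f a ≫ m) := by
    intro b m f
    rw [Adjunction.homEquiv_naturality_right, inj, Equiv.apply_symm_apply]
    show adjE.homEquiv _ _ (adjC.homEquiv _ _ m) ≫ _ = _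
    rw [Adjunction.homEquiv_unit, inj', proj, Category.assoc, Category.assoc]
    have hn := (θ (F := F) (J := J) f).naturality (adjC.homEquiv _ _ m)
    refine congrArg (adjE.unit.app a ≫ ·) ?_
    refine ((Category.assoc _ _ _).symm.trans (congrArg (· ≫ _) hn)).trans ((Category.assoc _ _ _).trans ?_)
    refine congrArg ((θ f).app ((FibSite.extend F J (Type u) i).obj a) ≫ ·) ?_
    refine ((((FibSite.invImage F f).sheafPushforwardContinuous (Type u) (J i) (J j))).map_comp _ _).symm.trans ?_
    refine congrArg _ ?_
    exact ((adjC.homEquiv_counit _ _ _).symm.trans ((adjC.homEquiv _ _).symm_apply_apply m))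
  let L := fun b : Sheaf (J j) (Type u) => (exists_isLimit_fan (i := j) (j := i) b).some
  refine ⟨Cofan.IsColimit.mk _ (fun p => (e p.pt).symm (Fan.IsLimit.lift (L p.pt) (fun f => (adjF f).homEquiv a p.pt (p.inj f))))
    (fun p f => ?_) (fun p m hm => ?_)⟩
  · apply ((adjF f).homEquiv a p.pt).injective
    refine (key p.pt _ f).symm.trans ?_
    rw [Equiv.apply_symm_apply]
    exact Fan.IsLimit.fac (L p.pt) _ f
  · apply (e p.pt).injective
    rw [Equiv.apply_symm_apply]
    refine Fan.IsLimit.hom_ext (L p.pt) _ _ fun f => ?_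
    refine Eq.trans ?_ (Fan.IsLimit.fac (L p.pt) _ f).symm
    exact (key p.pt m f).trans (congrArg ((adjF f).homEquiv a p.pt) (hm f))

end Coproduct

end Groth.Agent.FibSite16
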