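import Mathlib.CategoryTheory.Functor.KanExtension.Adjunction
import Mathlib.CategoryTheory.Sites.Localization
import Groth.Agent.FibSite16.Topology

/-! Left Kan extension from a fibre and bicovering morphisms. -/

set_option autoImplicit false
set_option backward.isDefEq.respectTransparency false
set_option backward.isDefEq.respectTransparency.types false

universe u

open CategoryTheory Opposite Pseudofunctor Pseudofunctor.CoGrothendieck CategoryTheory.Functor CategoryTheory.Limits

namespace Groth.Agent.FibSite16

variable {𝒮 : Type u} [SmallCategory 𝒮] {F : Pseudofunctor (LocallyDiscrete 𝒮ᵒᵖ) Cat.{u, u}}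
  {J : FibSite.Topologies F} {i : 𝒮}

open Classical in
/-- On the left Kan extension evaluated on the fibre: the component lying over the identity of the base. -/
theorem exists_component (R : (F.obj ⟨op i⟩)ᵒᵖ ⥤ Type u) (W : F.obj ⟨op i⟩) :
    ∃ d : (((ι F i).op.lan).obj R).obj (op ((ι F i).obj W)) → Option (R.obj (op W)),
      ∀ x r, d x = some r ↔ x = ((ι F i).op.lanUnit.app R).app (op W) r := by
  let η := (ι F i).op.lanUnit.app R
  let hc := isPointwiseLeftKanExtensionOfIsLeftKanExtension _ η ((ι F i).op.obj (op W))
  let G := CostructuredArrow (ι F i).op ((ι F i).op.obj (op W))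
  let f : ∀ g : G, R.obj g.left → Option (R.obj (op W)) := fun g r =>
    if h : g.hom.unop.base = 𝟙 i then some (R.map (exists_ι_map (W := W) (U := g.left.unop) g.hom.unop h).choose.op r)
    else none
  let c : Cocone (CostructuredArrow.proj (ι F i).op ((ι F i).op.obj (op W)) ⋙ R) :=
    { pt := Option (R.obj (op W))
      ι :=
        { app := fun g => ↾(f g)
          naturality := fun g g' m => by
            ext r
            show f g' (R.map m.left r) = f g r
            have hm : g'.hom.unop ≫ (ι F i).map m.left.unop = g.hom.unop :=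
              congrArg Quiver.Hom.unop (CostructuredArrow.w m)
            have hb : g'.hom.unop.base = g.hom.unop.base :=
              (Category.comp_id _).symm.trans (congrArg Pseudofunctor.CoGrothendieck.Hom.base hm)
            by_cases h : g.hom.unop.base = 𝟙 i
            · have h' : g'.hom.unop.base = 𝟙 i := hb.trans h
              simp only [f, dif_pos h, dif_pos h']
              refine congrArg some ?_
              have hφ : (exists_ι_map (W := W) (U := g'.left.unop) g'.hom.unop h').choose ≫ m.left.unop =
                  (exists_ι_map (W := W) (U := g.left.unop) g.hom.unop h).choose := ι_map_injective (by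
                rw [Functor.map_comp, (exists_ι_map (W := W) (U := g'.left.unop) g'.hom.unop h').choose_spec,
                  (exists_ι_map (W := W) (U := g.left.unop) g.hom.unop h).choose_spec]
                exact hm)
              rw [← hφ, op_comp, Functor.map_comp_apply]
              rfl
            · have h' : ¬ g'.hom.unop.base = 𝟙 i := fun e => h (hb.symm.trans e)
              simp only [f, dif_neg h, dif_neg h'] } }
  let L : LeftExtension (ι F i).op R := LeftExtension.mk _ η
  have hd : ∀ (g : G) (r : R.obj g.left), hc.desc c ((L.coconeAt _).ι.app g r) = f g r := fun g r =>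
    ConcreteCategory.congr_hom (hc.fac c g) r
  refine ⟨fun x => hc.desc c x, fun x r => ?_⟩
  constructor
  · intro hx
    obtain ⟨g, r', rfl⟩ := Types.jointly_surjective_of_isColimit hc x
    replace hx : f g r' = some r := (hd g r').symm.trans hx
    by_cases h : g.hom.unop.base = 𝟙 i
    · simp only [f, dif_pos h, Option.some.injEq] at hx
      subst hx
      obtain ⟨φ, hφ, hsp⟩ : ∃ φ, (exists_ι_map (W := W) (U := g.left.unop) g.hom.unop h).choose = φ ∧
          (ι F i).map φ = g.hom.unop :=
        ⟨_, rfl, (exists_ι_map (W := W) (U := g.left.unop) g.hom.unop h).choose_spec⟩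
      rw [hφ]
      refine Eq.trans ?_ (NatTrans.naturality_apply η φ.op r').symm
      show (((ι F i).op.lan).obj R).map g.hom (η.app g.left r') = (((ι F i).op.lan).obj R).map ((ι F i).map φ).op _
      rw [hsp]
      rfl
    · simp only [f, dif_neg h] at hx
      exact absurd hx (by simp)
  · intro hx
    let g₀ : G := CostructuredArrow.mk (Y := op W) (𝟙 ((ι F i).op.obj (op W)))
    have e : x = (L.coconeAt _).ι.app g₀ r := by
      rw [hx]
      show _ = (((ι F i).op.lan).obj R).map (𝟙 _) (η.app (op W) r)
      rw [CategoryTheory.Functor.map_id]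
      rfl
    refine ((congrArg (fun t => hc.desc c t) e).trans (hd g₀ r)).trans ?_
    have h : g₀.hom.unop.base = 𝟙 i := rfl
    simp only [f, dif_pos h, Option.some.injEq]
    have hφ : (exists_ι_map (W := W) (U := g₀.left.unop) g₀.hom.unop h).choose = 𝟙 W :=
      ι_map_injective ((exists_ι_map (W := W) (U := g₀.left.unop) g₀.hom.unop h).choose_spec.trans
        ((ι F i).map_id W).symm)
    rw [hφ]
    exact congrArg some (ConcreteCategory.congr_hom (R.map_id (op W)) r)

theorem lanUnit_injective (R : (F.obj ⟨op i⟩)ᵒᵖ ⥤ Type u) (W : F.obj ⟨op i⟩) :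
    Function.Injective (((ι F i).op.lanUnit.app R).app (op W)) := fun r r' h => by
  obtain ⟨d, hd⟩ := exists_component R W
  have h1 := (hd _ r).2 rfl
  rw [h, (hd _ r').2 rfl] at h1
  exact (Option.some.inj h1).symm

/-- Only the component over the identity maps to it. -/
theorem exists_preimage_lanUnit {R R' : (F.obj ⟨op i⟩)ᵒᵖ ⥤ Type u} (u : R ⟶ R') (W : F.obj ⟨op i⟩)
    (x : (((ι F i).op.lan).obj R).obj (op ((ι F i).obj W))) (r' : R'.obj (op W))
    (h : (((ι F i).op.lan).map u).app _ x = ((ι F i).op.lanUnit.app R').app (op W) r') :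
    ∃ r, x = ((ι F i).op.lanUnit.app R).app (op W) r ∧ u.app _ r = r' := by
  obtain ⟨d, hd⟩ := exists_component R W
  obtain ⟨d', hd'⟩ := exists_component R' W
  let η := (ι F i).op.lanUnit.app R
  let hc := isPointwiseLeftKanExtensionOfIsLeftKanExtension _ η ((ι F i).op.obj (op W))
  have hw : ∀ {Y : F.obj ⟨op i⟩} (r₀ : R.obj (op Y)),
      (((ι F i).op.lan).map u).app _ (η.app (op Y) r₀) = ((ι F i).op.lanUnit.app R').app (op Y) (u.app _ r₀) :=
    fun {Y} r₀ => (ConcreteCategory.congr_hom (NatTrans.congr_app ((ι F i).op.lanUnit.naturality u) (op Y)) r₀).symm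
  obtain ⟨g, r₀, rfl⟩ := Types.jointly_surjective_of_isColimit hc x
  have h2 : (((ι F i).op.lan).obj R').map g.hom
      (((ι F i).op.lanUnit.app R').app g.left (u.app _ r₀)) = ((ι F i).op.lanUnit.app R').app (op W) r' := by
    rw [← hw r₀]
    exact (NatTrans.naturality_apply (((ι F i).op.lan).map u) g.hom _).symm.trans h
  have hb : g.hom.unop.base = 𝟙 i := by
    by_contra hne
    classical
    let hc' := isPointwiseLeftKanExtensionOfIsLeftKanExtension _ ((ι F i).op.lanUnit.app R')
      ((ι F i).op.obj (op W))
    let c : Cocone (CostructuredArrow.proj (ι F i).op ((ι F i).op.obj (op W)) ⋙ R') :=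
      { pt := ULift Prop
        ι :=
          { app := fun g => ↾(fun _ => ULift.up (g.hom.unop.base = 𝟙 i))
            naturality := fun g g' m => by
              ext r
              show ULift.up (g'.hom.unop.base = 𝟙 i) = ULift.up (g.hom.unop.base = 𝟙 i)
              have hm : g'.hom.unop ≫ (ι F i).map m.left.unop = g.hom.unop :=
                congrArg Quiver.Hom.unop (CostructuredArrow.w m)
              have hb : g'.hom.unop.base = g.hom.unop.base :=
                (Category.comp_id _).symm.trans (congrArg Pseudofunctor.CoGrothendieck.Hom.base hm)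
              rw [hb] } }
    let g₀ : CostructuredArrow (ι F i).op ((ι F i).op.obj (op W)) :=
      CostructuredArrow.mk (Y := op W) (𝟙 ((ι F i).op.obj (op W)))
    have e0 : ((ι F i).op.lanUnit.app R').app (op W) r' =
        (((ι F i).op.lan).obj R').map g₀.hom (((ι F i).op.lanUnit.app R').app g₀.left r') := by
      show _ = (((ι F i).op.lan).obj R').map (𝟙 _) _
      rw [CategoryTheory.Functor.map_id]
      rfl
    have e2 := congrArg (fun t => hc'.desc c t) (h2.trans e0)
    have f1 := ConcreteCategory.congr_hom (hc'.fac c ⟨g.left, g.right, g.hom⟩) (u.app _ r₀)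
    have f2 := ConcreteCategory.congr_hom (hc'.fac c g₀) r'
    have e3 : ULift.up (g.hom.unop.base = 𝟙 i) = ULift.up (g₀.hom.unop.base = 𝟙 i) :=
      f1.symm.trans (e2.trans f2)
    exact hne ((congrArg ULift.down e3).mpr (rfl : g₀.hom.unop.base = 𝟙 i))
  obtain ⟨φ, hφ⟩ := exists_ι_map (W := W) (U := g.left.unop) g.hom.unop hb
  have hx : ((LeftExtension.mk _ η).coconeAt _).ι.app g r₀ = η.app (op W) (R.map φ.op r₀) := by
    refine Eq.trans ?_ (NatTrans.naturality_apply η φ.op r₀).symm
    show (((ι F i).op.lan).obj R).map g.hom (η.app g.left r₀) = (((ι F i).op.lan).obj R).map ((ι F i).map φ).op _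
    rw [hφ]
    rfl
  refine ⟨R.map φ.op r₀, hx, lanUnit_injective R' W ?_⟩
  exact ((congrArg ((((ι F i).op.lan).map u).app _) hx).trans (hw _)).symm.trans h

theorem W_iff (hF : FibSite.IsPreFibSite F J) {R : (F.obj ⟨op i⟩)ᵒᵖ ⥤ Type u} {U : F.obj ⟨op i⟩}
    (u : R ⟶ yoneda.obj U) :
    (J i).W u ↔ (FibSite.totalTopology F J).W (((ι F i).op.lan (H := Type u)).map u) := by
  haveI := continuous hF i
  haveI := cocontinuous hF i
  refine ⟨fun h => Functor.W_map_of_adjunction_of_isContinuous (J i) (FibSite.totalTopology F J) (ι F i) _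
    ((ι F i).op.lanAdjunction (Type u)) u h, fun h => ?_⟩
  rw [GrothendieckTopology.W_iff_isLocallyBijective] at h ⊢
  obtain ⟨hi, hs⟩ := h
  have hw : ∀ {W : F.obj ⟨op i⟩} (r : R.obj (op W)),
      (((ι F i).op.lan).map u).app _ (((ι F i).op.lanUnit.app R).app (op W) r) =
        ((ι F i).op.lanUnit.app (yoneda.obj U)).app (op W) (u.app _ r) :=
    fun {W} r => (ConcreteCategory.congr_hom (NatTrans.congr_app ((ι F i).op.lanUnit.naturality u) (op W)) r).symm
  refine ⟨⟨fun {X} x y hxy => ?_⟩, ⟨fun {W} s => ?_⟩⟩
  · have he := Presheaf.equalizerSieve_mem (FibSite.totalTopology F J) (((ι F i).op.lan).map u)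
      (X := op ((ι F i).obj X.unop)) (((ι F i).op.lanUnit.app R).app X x) (((ι F i).op.lanUnit.app R).app X y)
      ((hw x).trans ((congrArg _ hxy).trans (hw y).symm))
    refine (J i).superset_covering ?_ ((ι F i).cover_lift (J i) _ he)
    intro Z b hb
    show R.map b.op x = R.map b.op y
    refine lanUnit_injective R Z ?_
    exact (NatTrans.naturality_apply ((ι F i).op.lanUnit.app R) b.op x).trans
      (hb.trans (NatTrans.naturality_apply ((ι F i).op.lanUnit.app R) b.op y).symm)
  · have he := Presheaf.imageSieve_mem (FibSite.totalTopology F J) (((ι F i).op.lan).map u)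
      (U := op ((ι F i).obj W)) (((ι F i).op.lanUnit.app (yoneda.obj U)).app (op W) s)
    refine (J i).superset_covering ?_ ((ι F i).cover_lift (J i) _ he)
    intro Z b hb
    obtain ⟨x, hx⟩ := hb
    obtain ⟨r, -, hr⟩ := exists_preimage_lanUnit u Z x ((yoneda.obj U).map b.op s)
      (hx.trans (NatTrans.naturality_apply ((ι F i).op.lanUnit.app (yoneda.obj U)) b.op s).symm)
    exact ⟨r, hr⟩

end Groth.Agent.FibSite16
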