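import Groth.Agent.FibSite16.Adjoints
import Mathlib.CategoryTheory.Limits.Preserves.Limits

/-! Left exactness of the extension from the fibre over a terminal object. -/

set_option autoImplicit false

universe u

open CategoryTheory Opposite Pseudofunctor Pseudofunctor.CoGrothendieck CategoryTheory.Functor CategoryTheory.Limits

namespace Groth.Agent.FibSite16

variable {𝒮 : Type u} [SmallCategory 𝒮] {F : Pseudofunctor (LocallyDiscrete 𝒮ᵒᵖ) Cat.{u, u}}
  {J : FibSite.Topologies F}

theorem extend_preservesFiniteLimits (hF : FibSite.IsFibSite F J) {i : 𝒮} (hi : IsTerminal i)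
    [∀ S : 𝒮, (ι F S).IsContinuous (J S) (FibSite.totalTopology F J)]
    [∀ (R S : 𝒮) (f : R ⟶ S), (FibSite.invImage F f).IsContinuous (J S) (J R)] :
    PreservesFiniteLimits (FibSite.extend F J (Type u) i) := by
  have hpre := hF.isPreFibSite
  have hrestr : ∀ j, PreservesFiniteLimits (FibSite.extend F J (Type u) i ⋙ FibSite.restr F J (Type u) j) := by
    intro j
    haveI : ∀ a, IsIso ((injNat (F := F) (J := J) (hi.from j)).app a) := fun a => by
      obtain ⟨h⟩ := exists_isColimit_cofan (i := i) (j := j) hpre a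
      let d := Cofan.IsColimit.desc h (fun f => eqToHom (by rw [hi.hom_ext f (hi.from j)]))
      refine ⟨⟨d, (Cofan.IsColimit.fac h _ (hi.from j)).trans (eqToHom_refl _ _), ?_⟩⟩
      refine Cofan.IsColimit.hom_ext h _ _ fun f => ?_
      obtain rfl := hi.hom_ext f (hi.from j)
      refine ((Category.assoc _ _ _).symm.trans (congrArg (· ≫ _) (Cofan.IsColimit.fac h _ (hi.from j)))).trans ?_
      exact ((congrArg (· ≫ _) (eqToHom_refl _ _)).trans (Category.id_comp _)).trans (Category.comp_id _).symm
    haveI : IsIso (injNat (F := F) (J := J) (hi.from j)) := NatIso.isIso_of_isIso_app _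
    obtain ⟨_, _, h⟩ := hF (hi.from j)
    haveI := h
    exact preservesFiniteLimits_of_natIso (asIso (injNat (F := F) (J := J) (hi.from j)))
  refine ⟨fun K _ _ => ⟨fun {D} => ⟨fun {c} hc => ?_⟩⟩⟩
  refine ⟨isLimitOfReflects (sheafToPresheaf (FibSite.totalTopology F J) (Type u)) ?_⟩
  refine evaluationJointlyReflectsLimits _ fun X => ?_
  haveI := hrestr X.unop.base
  haveI h1 : PreservesLimitsOfShape K (sheafToPresheaf (J X.unop.base) (Type u)) := inferInstance
  haveI h2 : PreservesLimitsOfShape K ((evaluation (F.obj ⟨op X.unop.base⟩)ᵒᵖ (Type u)).obj (op X.unop.fiber)) :=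
    inferInstance
  haveI h3 : PreservesLimitsOfShape K (FibSite.extend F J (Type u) i ⋙ FibSite.restr F J (Type u) X.unop.base) :=
    PreservesFiniteLimits.preservesFiniteLimits K
  exact (@isLimitOfPreserves _ _ _ _ _ _ _ ((evaluation (F.obj ⟨op X.unop.base⟩)ᵒᵖ (Type u)).obj (op X.unop.fiber)) _
    (@isLimitOfPreserves _ _ _ _ _ _ _ (sheafToPresheaf (J X.unop.base) (Type u)) _
      (@isLimitOfPreserves _ _ _ _ _ _ _ (FibSite.extend F J (Type u) i ⋙ FibSite.restr F J (Type u) X.unop.base) _
        hc h3.preservesLimit) h1.preservesLimit) h2.preservesLimit : _)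

end Groth.Agent.FibSite16
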