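import Groth.Agent.FibSite16.Basic

/-! The functor between total categories induced by a strong transformation, on the standard morphisms. -/

set_option autoImplicit false
set_option backward.isDefEq.respectTransparency false
set_option backward.isDefEq.respectTransparency.types false

universe v₂ u₂ v₁ u₁

open CategoryTheory Bicategory Opposite Pseudofunctor Pseudofunctor.CoGrothendieck CategoryTheory.Functor
open scoped CategoryTheory.Pseudofunctor.StrongTrans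

namespace Groth.Agent.FibSite16

variable {𝒮 : Type u₁} [Category.{v₁} 𝒮] {F G : Pseudofunctor (LocallyDiscrete 𝒮ᵒᵖ) Cat.{v₂, u₂}}

attribute [local simp] PrelaxFunctor.map₂_eqToHom

theorem ι_comp_cart_eq {R S : 𝒮} {V : F.obj ⟨op R⟩} {U : F.obj ⟨op S⟩} (f : R ⟶ S)
    (χ : V ⟶ (FibSite.invImage F f).obj U) :
    (ι F R).map χ ≫ cart U f = (⟨f, χ⟩ : (⟨R, V⟩ : ∫ᶜ F) ⟶ ⟨S, U⟩) := by
  ext
  · exact Category.id_comp f
  · simp only [Pseudofunctor.CoGrothendieck.categoryStruct_comp_fiber, ι_map_fiber]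
    show (χ ≫ (F.mapId ⟨op R⟩).inv.toNatTrans.app ((F.map f.op.toLoc).toFunctor.obj U)) ≫
          (F.map (𝟙 (⟨op R⟩ : LocallyDiscrete 𝒮ᵒᵖ))).toFunctor.map (𝟙 ((F.map f.op.toLoc).toFunctor.obj U)) ≫
          (F.mapComp f.op.toLoc (𝟙 (⟨op R⟩ : LocallyDiscrete 𝒮ᵒᵖ))).inv.toNatTrans.app U =
      χ ≫ eqToHom _
    rw [F.mapComp_id_right_inv_app]
    simp [Strict.rightUnitor_eqToIso, ← Cat.Hom₂.comp_app]

variable (α : G ⟶ F)

theorem map_ι_map {S : 𝒮} {W U : G.obj ⟨op S⟩} (φ : W ⟶ U) :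
    (Pseudofunctor.CoGrothendieck.map α).map ((ι G S).map φ) =
      (ι F S).map ((α.app ⟨op S⟩).toFunctor.map φ) := by
  ext
  · rfl
  · show (α.app ⟨op S⟩).toFunctor.map (φ ≫ (G.mapId ⟨op S⟩).inv.toNatTrans.app U) ≫
        (α.naturality (𝟙 (⟨op S⟩ : LocallyDiscrete 𝒮ᵒᵖ))).hom.toNatTrans.app U =
      ((α.app ⟨op S⟩).toFunctor.map φ ≫
        (F.mapId ⟨op S⟩).inv.toNatTrans.app ((α.app ⟨op S⟩).toFunctor.obj U)) ≫ eqToHom _
    simp [StrongTrans.naturality_id_hom_app, Cat.Hom.id_toFunctor, Cat.Hom.comp_toFunctor, ← Functor.map_comp,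
      ← Functor.map_comp_assoc, ← Cat.Hom₂.comp_app]

theorem map_cart {R S : 𝒮} (f : R ⟶ S) (U : G.obj ⟨op S⟩) :
    (Pseudofunctor.CoGrothendieck.map α).map (cart U f) =
      (ι F R).map ((α.naturality f.op.toLoc).hom.toNatTrans.app U) ≫
        cart ((α.app ⟨op S⟩).toFunctor.obj U) f := by
  refine Eq.trans ?_ (ι_comp_cart_eq f ((α.naturality f.op.toLoc).hom.toNatTrans.app U)).symm
  ext
  · rfl
  · show (α.app ⟨op R⟩).toFunctor.map (𝟙 _) ≫ (α.naturality f.op.toLoc).hom.toNatTrans.app U = _ ≫ eqToHom _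
    simp

end Groth.Agent.FibSite16
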