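import Groth.Agent.FibSite16.Adjoints
import Groth.Agent.FibSite16.MapLemmas

/-! A morphism of fibred sites induces a morphism of total sites. -/

set_option autoImplicit false
set_option backward.isDefEq.respectTransparency false
set_option backward.isDefEq.respectTransparency.types false

universe u

open CategoryTheory Opposite Pseudofunctor Pseudofunctor.CoGrothendieck CategoryTheory.Functor CategoryTheory.Limits
open scoped CategoryTheory.Pseudofunctor.StrongTrans

namespace Groth.Agent.FibSite16

variable {𝒮 : Type u} [SmallCategory 𝒮] {F G : Pseudofunctor (LocallyDiscrete 𝒮ᵒᵖ) Cat.{u, u}}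
  {J : FibSite.Topologies F} {K : FibSite.Topologies G} (α : G ⟶ F)

/-- On a fibre, the induced functor is the fibre component. -/
noncomputable def mapιIso (S : 𝒮) :
    (α.app ⟨op S⟩).toFunctor ⋙ ι F S ≅ ι G S ⋙ Pseudofunctor.CoGrothendieck.map α :=
  NatIso.ofComponents (fun _ => Iso.refl _) (fun φ =>
    (Category.comp_id _).trans ((map_ι_map α φ).symm.trans (Category.id_comp _).symm))

theorem map_continuous (hF : FibSite.IsPreFibSite F J) (hG : FibSite.IsPreFibSite G K)
    [∀ S : 𝒮, (α.app ⟨op S⟩).toFunctor.IsContinuous (K S) (J S)] :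
    (Pseudofunctor.CoGrothendieck.map α).IsContinuous (FibSite.totalTopology G K) (FibSite.totalTopology F J) := by
  rw [continuous_iff hG]
  intro S
  haveI := continuous hF S
  haveI : ((α.app ⟨op S⟩).toFunctor ⋙ ι F S).IsContinuous (K S) (FibSite.totalTopology F J) :=
    Functor.isContinuous_comp _ _ _ (J S) _
  exact Functor.isContinuous_of_iso (mapιIso α S) (K S) (FibSite.totalTopology F J)

section BeckChevalley

variable [∀ S : 𝒮, (ι F S).IsContinuous (J S) (FibSite.totalTopology F J)]
  [∀ S : 𝒮, (ι G S).IsContinuous (K S) (FibSite.totalTopology G K)]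
  [∀ (R S : 𝒮) (f : R ⟶ S), (FibSite.invImage F f).IsContinuous (J S) (J R)]
  [∀ (R S : 𝒮) (f : R ⟶ S), (FibSite.invImage G f).IsContinuous (K S) (K R)]
  [(Pseudofunctor.CoGrothendieck.map α).IsContinuous (FibSite.totalTopology G K) (FibSite.totalTopology F J)]
  [∀ S : 𝒮, (α.app ⟨op S⟩).toFunctor.IsContinuous (K S) (J S)]

/-- Restriction commutes with the induced functors. -/
noncomputable def restrMap (S : 𝒮) :
    (Pseudofunctor.CoGrothendieck.map α).sheafPushforwardContinuous (Type u) (FibSite.totalTopology G K)
        (FibSite.totalTopology F J) ⋙ FibSite.restr G K (Type u) S ⟶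
      FibSite.restr F J (Type u) S ⋙ (α.app ⟨op S⟩).toFunctor.sheafPushforwardContinuous (Type u) (K S) (J S) where
  app X := ⟨{ app := fun W => ↾(fun x => x)
              naturality := fun W W' φ => by
                ext x
                exact ConcreteCategory.congr_hom (congrArg (fun q => X.obj.map q.op) (map_ι_map α φ.unop)) x }⟩
  naturality X Y m := by
    apply Sheaf.hom_ext
    ext W x
    rfl

variable (S : 𝒮) [(ι F S).IsCocontinuous (J S) (FibSite.totalTopology F J)]
  [(ι G S).IsCocontinuous (K S) (FibSite.totalTopology G K)]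

/-- The comparison of the right adjoints. -/
noncomputable def coextMap :
    FibSite.coextend F J (Type u) S ⋙ (Pseudofunctor.CoGrothendieck.map α).sheafPushforwardContinuous (Type u)
        (FibSite.totalTopology G K) (FibSite.totalTopology F J) ⟶
      (α.app ⟨op S⟩).toFunctor.sheafPushforwardContinuous (Type u) (K S) (J S) ⋙ FibSite.coextend G K (Type u) S where
  app b := ((ι G S).sheafAdjunctionCocontinuous (Type u) (K S) (FibSite.totalTopology G K)).homEquiv _ _
    ((restrMap α S).app ((FibSite.coextend F J (Type u) S).obj b) ≫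
      ((α.app ⟨op S⟩).toFunctor.sheafPushforwardContinuous (Type u) (K S) (J S)).map
        (((ι F S).sheafAdjunctionCocontinuous (Type u) (J S) (FibSite.totalTopology F J)).counit.app b))
  naturality b b' g := by
    refine (Adjunction.homEquiv_naturality_left _ _ _).symm.trans (Eq.trans ?_ (Adjunction.homEquiv_naturality_right _ _ _))
    refine congrArg _ ?_
    have h1 := (restrMap (J := J) (K := K) α S).naturality ((FibSite.coextend F J (Type u) S).map g)
    have h2 := ((ι F S).sheafAdjunctionCocontinuous (Type u) (J S) (FibSite.totalTopology F J)).counit.naturality g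
    refine ((Category.assoc _ _ _).symm.trans (congrArg (· ≫ _) h1)).trans ?_
    refine (Category.assoc _ _ _).trans (Eq.trans ?_ (Category.assoc _ _ _).symm)
    refine congrArg (_ ≫ ·) ?_
    exact ((((α.app ⟨op S⟩).toFunctor.sheafPushforwardContinuous (Type u) (K S) (J S))).map_comp _ _).symm.trans
      ((congrArg _ h2).trans (((α.app ⟨op S⟩).toFunctor.sheafPushforwardContinuous (Type u) (K S) (J S)).map_comp _ _))

theorem proj_coextMap (b : Sheaf (J S) (Type u)) {T : 𝒮} (f : S ⟶ T) (V : G.obj ⟨op T⟩)
    (z : (((ι F S).op.ran).obj b.obj).obj (op ((ι F T).obj ((α.app ⟨op T⟩).toFunctor.obj V)))) :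
    (proj f (((α.app ⟨op S⟩).toFunctor.sheafPushforwardContinuous (Type u) (K S) (J S)).obj b)).hom.app (op V)
        (((coextMap (J := J) (K := K) α S).app b).hom.app (op ((ι G T).obj V)) z) =
      b.obj.map ((α.naturality f.op.toLoc).hom.toNatTrans.app V).op
        ((proj f b).hom.app (op ((α.app ⟨op T⟩).toFunctor.obj V)) z) := by
  let adjG := (ι G S).sheafAdjunctionCocontinuous (Type u) (K S) (FibSite.totalTopology G K)
  let Φs := (Pseudofunctor.CoGrothendieck.map α).sheafPushforwardContinuous (Type u)
    (FibSite.totalTopology G K) (FibSite.totalTopology F J)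
  let m := (restrMap (J := J) (K := K) α S).app ((FibSite.coextend F J (Type u) S).obj b) ≫
      ((α.app ⟨op S⟩).toFunctor.sheafPushforwardContinuous (Type u) (K S) (J S)).map
        (((ι F S).sheafAdjunctionCocontinuous (Type u) (J S) (FibSite.totalTopology F J)).counit.app b)
  have hm : (FibSite.restr G K (Type u) S).map ((coextMap (J := J) (K := K) α S).app b) ≫ adjG.counit.app _ = m :=
    (adjG.homEquiv_counit _ _ _).symm.trans ((adjG.homEquiv _ _).symm_apply_apply m)
  have hn := NatTrans.naturality_apply ((coextMap (J := J) (K := K) α S).app b).hom (cart V f).op z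
  show (adjG.counit.app _).hom.app (op ((FibSite.invImage G f).obj V))
    ((((FibSite.coextend G K (Type u) S).obj
      (((α.app ⟨op S⟩).toFunctor.sheafPushforwardContinuous (Type u) (K S) (J S)).obj b))).obj.map (cart V f).op
        (((coextMap (J := J) (K := K) α S).app b).hom.app (op ((ι G T).obj V)) z)) = _
  refine (congrArg ((adjG.counit.app _).hom.app (op ((FibSite.invImage G f).obj V))) hn.symm).trans ?_
  refine (ConcreteCategory.congr_hom (NatTrans.congr_app (congrArg (fun t => t.hom) hm)
    (op ((FibSite.invImage G f).obj V))) _).trans ?_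
  let εF := (((ι F S).sheafAdjunctionCocontinuous (Type u) (J S) (FibSite.totalTopology F J)).counit.app b).hom
  show εF.app _ (((FibSite.coextend F J (Type u) S).obj b).obj.map
    ((Pseudofunctor.CoGrothendieck.map α).map (cart V f)).op z) = _
  rw [map_cart, op_comp, Functor.map_comp_apply]
  exact NatTrans.naturality_apply εF ((α.naturality f.op.toLoc).hom.toNatTrans.app V).op _

theorem isIso_coextMap : IsIso (coextMap (J := J) (K := K) α S) := by
  haveI : ∀ b, IsIso ((coextMap (J := J) (K := K) α S).app b) := fun b => by
    haveI : IsIso ((sheafToPresheaf (FibSite.totalTopology G K) (Type u)).map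
        ((coextMap (J := J) (K := K) α S).app b)) := by
      haveI : ∀ X, IsIso (((coextMap (J := J) (K := K) α S).app b).hom.app X) := fun X => by
        obtain ⟨⟨T, V⟩⟩ := X
        rw [isIso_iff_bijective]
        have hG := proj_bijective (i := S) (j := T)
          (((α.app ⟨op S⟩).toFunctor.sheafPushforwardContinuous (Type u) (K S) (J S)).obj b) (op V)
        have hFb := proj_bijective (i := S) (j := T) b (op ((α.app ⟨op T⟩).toFunctor.obj V))
        have hiso : ∀ f : S ⟶ T, Function.Bijective
            (b.obj.map ((α.naturality f.op.toLoc).hom.toNatTrans.app V).op) := fun f => by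
          haveI : IsIso ((α.naturality f.op.toLoc).hom.toNatTrans.app V) :=
            (inferInstance : IsIso (((Cat.Hom.toNatIso (α.naturality f.op.toLoc)).app V).hom))
          exact (isIso_iff_bijective _).1 inferInstance
        refine (Function.Bijective.of_comp_iff' hG _).1 ?_
        have key : (fun z f => (proj f (((α.app ⟨op S⟩).toFunctor.sheafPushforwardContinuous (Type u) (K S) (J S)).obj b)).hom.app
              (op V) z) ∘ (((coextMap (J := J) (K := K) α S).app b).hom.app (op ⟨T, V⟩)) =
            (fun y (f : S ⟶ T) => b.obj.map ((α.naturality f.op.toLoc).hom.toNatTrans.app V).op (y f)) ∘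
              (fun z (f : S ⟶ T) => (proj f b).hom.app (op ((α.app ⟨op T⟩).toFunctor.obj V)) z) := by
          funext z f
          exact proj_coextMap α S b f V z
        exact key.symm ▸ (Function.Bijective.piMap hiso).comp hFb
      show IsIso ((coextMap (J := J) (K := K) α S).app b).hom
      exact NatIso.isIso_of_isIso_app _
    exact isIso_of_reflects_iso _ (sheafToPresheaf (FibSite.totalTopology G K) (Type u))
  exact NatIso.isIso_of_isIso_app _

/-- The comparison of the left adjoints. -/
noncomputable def pullbackRestrIso [IsIso (coextMap (J := J) (K := K) α S)] :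
    FibSite.restr G K (Type u) S ⋙ (α.app ⟨op S⟩).toFunctor.sheafPullback (Type u) (K S) (J S) ≅
      (Pseudofunctor.CoGrothendieck.map α).sheafPullback (Type u) (FibSite.totalTopology G K)
          (FibSite.totalTopology F J) ⋙ FibSite.restr F J (Type u) S :=
  ((((ι G S).sheafAdjunctionCocontinuous (Type u) (K S) (FibSite.totalTopology G K)).comp
      ((α.app ⟨op S⟩).toFunctor.sheafAdjunctionContinuous (Type u) (K S) (J S)))).leftAdjointUniq
    ((((Pseudofunctor.CoGrothendieck.map α).sheafAdjunctionContinuous (Type u) (FibSite.totalTopology G K)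
      (FibSite.totalTopology F J)).comp
        ((ι F S).sheafAdjunctionCocontinuous (Type u) (J S) (FibSite.totalTopology F J))).ofNatIsoRight
      (asIso (coextMap (J := J) (K := K) α S)))

end BeckChevalley

theorem map_preservesFiniteLimits (hF : FibSite.IsPreFibSite F J) (hG : FibSite.IsPreFibSite G K)
    [∀ S : 𝒮, (α.app ⟨op S⟩).toFunctor.IsContinuous (K S) (J S)]
    [(Pseudofunctor.CoGrothendieck.map α).IsContinuous (FibSite.totalTopology G K) (FibSite.totalTopology F J)]
    (hα : ∀ S : 𝒮, PreservesFiniteLimits ((α.app ⟨op S⟩).toFunctor.sheafPullback (Type u) (K S) (J S))) :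
    PreservesFiniteLimits ((Pseudofunctor.CoGrothendieck.map α).sheafPullback (Type u)
      (FibSite.totalTopology G K) (FibSite.totalTopology F J)) := by
  haveI : ∀ S, (ι F S).IsContinuous (J S) (FibSite.totalTopology F J) := fun S => continuous hF S
  haveI : ∀ S, (ι G S).IsContinuous (K S) (FibSite.totalTopology G K) := fun S => continuous hG S
  haveI : ∀ (R S : 𝒮) (f : R ⟶ S), (FibSite.invImage F f).IsContinuous (J S) (J R) := fun R S f => hF f
  haveI : ∀ (R S : 𝒮) (f : R ⟶ S), (FibSite.invImage G f).IsContinuous (K S) (K R) := fun R S f => hG f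
  let L := (Pseudofunctor.CoGrothendieck.map α).sheafPullback (Type u) (FibSite.totalTopology G K)
      (FibSite.totalTopology F J)
  have hrestr : ∀ S, PreservesFiniteLimits (L ⋙ FibSite.restr F J (Type u) S) := fun S => by
    haveI := cocontinuous hF S
    haveI := cocontinuous hG S
    haveI := isIso_coextMap (J := J) (K := K) α S
    haveI := hα S
    haveI : PreservesFiniteLimits (FibSite.restr G K (Type u) S) :=
      ⟨fun K' _ _ => ((ι G S).sheafAdjunctionContinuous (Type u) (K S) (FibSite.totalTopology G K)).rightAdjoint_preservesLimits.preservesLimitsOfShape⟩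
    haveI : PreservesFiniteLimits (FibSite.restr G K (Type u) S ⋙
        (α.app ⟨op S⟩).toFunctor.sheafPullback (Type u) (K S) (J S)) :=
      comp_preservesFiniteLimits _ _
    exact preservesFiniteLimits_of_natIso (pullbackRestrIso (J := J) (K := K) α S)
  refine ⟨fun K' _ _ => ⟨fun {D} => ⟨fun {c} hc => ?_⟩⟩⟩
  refine ⟨isLimitOfReflects (sheafToPresheaf (FibSite.totalTopology F J) (Type u)) ?_⟩
  refine evaluationJointlyReflectsLimits _ fun X => ?_
  haveI h1 : PreservesLimitsOfShape K' (sheafToPresheaf (J X.unop.base) (Type u)) := inferInstance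
  haveI h2 : PreservesLimitsOfShape K' ((evaluation (F.obj ⟨op X.unop.base⟩)ᵒᵖ (Type u)).obj (op X.unop.fiber)) :=
    inferInstance
  haveI := hrestr X.unop.base
  haveI h3 : PreservesLimitsOfShape K' (L ⋙ FibSite.restr F J (Type u) X.unop.base) :=
    PreservesFiniteLimits.preservesFiniteLimits K'
  exact (@isLimitOfPreserves _ _ _ _ _ _ _ ((evaluation (F.obj ⟨op X.unop.base⟩)ᵒᵖ (Type u)).obj (op X.unop.fiber)) _
    (@isLimitOfPreserves _ _ _ _ _ _ _ (sheafToPresheaf (J X.unop.base) (Type u)) _
      (@isLimitOfPreserves _ _ _ _ _ _ _ (L ⋙ FibSite.restr F J (Type u) X.unop.base) _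
        hc h3.preservesLimit) h1.preservesLimit) h2.preservesLimit : _)

end Groth.Agent.FibSite16
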