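import Groth.Agent.FibSite16.MapSites
import Mathlib.CategoryTheory.Sites.LeftExact
import Mathlib.CategoryTheory.Limits.Types.Pullbacks
import Mathlib.CategoryTheory.Limits.FunctorCategory.Shapes.Pullbacks

/-! If the induced functor of total sites is continuous, so is every fibre component. -/

set_option autoImplicit false
set_option backward.isDefEq.respectTransparency false
set_option backward.isDefEq.respectTransparency.types false

universe u

open CategoryTheory Opposite Pseudofunctor Pseudofunctor.CoGrothendieck CategoryTheory.Functor CategoryTheory.Limits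
open scoped CategoryTheory.Pseudofunctor.StrongTrans

namespace Groth.Agent.FibSite16

section Lemmas

variable {D : Type u} [SmallCategory D] {K : GrothendieckTopology D}

/-- A retract of a sheaf is a sheaf. -/
theorem isSheaf_of_retract {P Q : Dᵒᵖ ⥤ Type u} (s : P ⟶ Q) (r : Q ⟶ P)
    (h : ∀ U y, r.app U (s.app U y) = y) (hQ : Presieve.IsSheaf K Q) : Presieve.IsSheaf K P := by
  intro U R hR x hx
  have hQR := hQ R hR
  refine ⟨r.app _ (hQR.amalgamate (x.map s) (hx.map s)), fun V f hf => ?_, fun t ht => ?_⟩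
  · refine (NatTrans.naturality_apply r f.op _).symm.trans ?_
    exact (congrArg (r.app _) (hQR.valid_glue (hx.map s) f hf)).trans (h _ _)
  · refine (h _ t).symm.trans (congrArg (r.app _) ?_)
    exact hQR.isSeparatedFor (x.map s) _ _ (ht.map s)
      (hQR.isAmalgamation (hx.map s))

/-- The locus where a map to a separated presheaf hits a section is a sheaf. -/
theorem isSheaf_of_locus {P Q R : Dᵒᵖ ⥤ Type u} (i : P ⟶ Q) (a : Q ⟶ R) (c : ∀ U, R.obj U)
    (hc : ∀ {U V : Dᵒᵖ} (f : U ⟶ V), R.map f (c U) = c V) (hi : ∀ U, Function.Injective (i.app U))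
    (hr : ∀ U (q : Q.obj U), a.app U q = c U ↔ ∃ p, i.app U p = q)
    (hQ : Presieve.IsSheaf K Q) (hR : Presieve.IsSheaf K R) : Presieve.IsSheaf K P := by
  intro U S hS x hx
  have hQS := hQ S hS
  obtain ⟨p, hp⟩ := (hr _ (hQS.amalgamate (x.map i) (hx.map i))).1 (by
    refine (hR S hS).isSeparatedFor.ext fun V f hf => ?_
    refine Eq.trans ?_ (hc f.op).symm
    refine (NatTrans.naturality_apply a f.op _).symm.trans ?_
    exact (congrArg (a.app _) (hQS.valid_glue (hx.map i) f hf)).trans ((hr _ _).2 ⟨x f hf, rfl⟩))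
  refine ⟨p, fun V f hf => hi _ ?_, fun t ht => hi _ ?_⟩
  · refine (NatTrans.naturality_apply i f.op p).trans ?_
    exact (congrArg (Q.map f.op) hp).trans (hQS.valid_glue (hx.map i) f hf)
  · refine Eq.trans ?_ hp.symm
    exact hQS.isSeparatedFor (x.map i) _ _ (ht.map i)
      (hQS.isAmalgamation (hx.map i))

/-- Adjoining a point to a presheaf. -/
def opt (P : Dᵒᵖ ⥤ Type u) : Dᵒᵖ ⥤ Type u where
  obj U := Option (P.obj U)
  map f := ↾(Option.map (P.map f))
  map_id U := by
    apply ConcreteCategory.hom_ext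
    rintro (_ | x)
    · rfl
    · exact congrArg some (ConcreteCategory.congr_hom (P.map_id U) x)
  map_comp f g := by
    apply ConcreteCategory.hom_ext
    rintro (_ | x)
    · rfl
    · exact congrArg some (ConcreteCategory.congr_hom (P.map_comp f g) x)

/-- The one-point presheaf. -/
def one : Dᵒᵖ ⥤ Type u := (Functor.const Dᵒᵖ).obj PUnit.{u + 1}

theorem one_isSheaf : Presieve.IsSheaf K (one (D := D)) :=
  fun _ _ _ _ _ => ⟨PUnit.unit, fun _ _ _ => rfl, fun _ _ => rfl⟩

/-- Every sheaf is cut out by an equation between two maps of pointed sheaves. -/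
theorem exists_locus (b : Sheaf K (Type u)) :
    ∃ (Q R : Sheaf K (Type u)) (q : ∀ U, Q.obj.obj U) (r : ∀ U, R.obj.obj U) (i : b ⟶ Q) (a : Q ⟶ R)
      (c : ∀ U, R.obj.obj U),
      (∀ {U V} (f : U ⟶ V), Q.obj.map f (q U) = q V) ∧ (∀ {U V} (f : U ⟶ V), R.obj.map f (r U) = r V) ∧
      (∀ {U V} (f : U ⟶ V), R.obj.map f (c U) = c V) ∧ (∀ U, Function.Injective (i.hom.app U)) ∧
      ∀ U (x : Q.obj.obj U), a.hom.app U x = c U ↔ ∃ p, i.hom.app U p = x := by
  let α₀ : opt b.obj ⟶ opt one :=
    { app := fun U => ↾(Option.map fun _ => PUnit.unit)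
      naturality := fun U V f => by apply ConcreteCategory.hom_ext; rintro (_ | x) <;> rfl }
  let sP : b.obj ⟶ opt b.obj := { app := fun U => ↾some }
  let s1 : one ⟶ opt (one (D := D)) := { app := fun U => ↾some }
  let t : b.obj ⟶ one := { app := fun U => ↾(fun _ => PUnit.unit) }
  have h0 : IsPullback sP t α₀ s1 := by
    refine IsPullback.of_forall_isPullback_app fun U => ?_
    rw [Types.isPullback_iff]
    refine ⟨by ext x; rfl, fun x y h => Option.some_injective _ h.1, fun x y h => ?_⟩
    match x, h with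
    | some p, _ => exact ⟨p, rfl, rfl⟩
  let sh := presheafToSheaf K (Type u)
  have h1 := ((h0.map sh).map (sheafToPresheaf K (Type u)))
  haveI hb : IsIso (toSheafify K b.obj) := isIso_toSheafify _ b.property
  haveI h1' : IsIso (toSheafify K (one (D := D))) :=
    isIso_toSheafify _ ((isSheaf_iff_isSheaf_of_type _ _).2 one_isSheaf)
  have h2 : IsPullback (sP ≫ toSheafify K (opt b.obj)) t ((sh.map α₀).hom) (s1 ≫ toSheafify K (opt one)) :=
    h1.of_iso (asIso (toSheafify K b.obj)).symm (Iso.refl _) (asIso (toSheafify K (one (D := D)))).symm (Iso.refl _)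
      ((Category.comp_id _).trans (((asIso (toSheafify K b.obj)).eq_inv_comp).2 (toSheafify_naturality K sP).symm))
      (by
        show (sh.map t).hom ≫ inv (toSheafify K (one (D := D))) = inv (toSheafify K b.obj) ≫ t
        rw [IsIso.comp_inv_eq, Category.assoc, IsIso.eq_inv_comp]
        exact (toSheafify_naturality K t).symm)
      ((Category.comp_id _).trans (Category.id_comp _).symm)
      ((Category.comp_id _).trans (((asIso (toSheafify K (one (D := D)))).eq_inv_comp).2 (toSheafify_naturality K s1).symm))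
  let η₁ : opt (one (D := D)) ⟶ (sh.obj (opt (one (D := D)))).obj := toSheafify K _
  let η₀ : opt b.obj ⟶ (sh.obj (opt b.obj)).obj := toSheafify K _
  let q : ∀ U, (sh.obj (opt b.obj)).obj.obj U := fun U => η₀.app U (none : Option (b.obj.obj U))
  let r : ∀ U, (sh.obj (opt (one (D := D)))).obj.obj U := fun U => η₁.app U (none : Option PUnit.{u + 1})
  let c : ∀ U, (sh.obj (opt (one (D := D)))).obj.obj U := fun U => η₁.app U (some PUnit.unit : Option PUnit.{u + 1})
  refine ⟨sh.obj (opt b.obj), sh.obj (opt (one (D := D))), q, r, ⟨sP ≫ η₀⟩, sh.map α₀, c,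
    fun {U V} f => (NatTrans.naturality_apply η₀ f (none : Option (b.obj.obj U))).symm,
    fun {U V} f => (NatTrans.naturality_apply η₁ f (none : Option PUnit.{u + 1})).symm,
    fun {U V} f => (NatTrans.naturality_apply η₁ f (some PUnit.unit : Option PUnit.{u + 1})).symm,
    fun U x y h => Types.ext_of_isPullback (h2.app U) h rfl, fun U x => ⟨fun h => ?_, ?_⟩⟩
  · obtain ⟨p, hp, -⟩ := Types.exists_of_isPullback (h2.app U) x PUnit.unit h
    exact ⟨p, hp⟩
  · rintro ⟨p, rfl⟩
    exact ConcreteCategory.congr_hom (h2.app U).w p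

end Lemmas

variable {𝒮 : Type u} [SmallCategory 𝒮] {F G : Pseudofunctor (LocallyDiscrete 𝒮ᵒᵖ) Cat.{u, u}}
  {J : FibSite.Topologies F} {K : FibSite.Topologies G} (α : G ⟶ F)

theorem exists_cart_id {S : 𝒮} (f : S ⟶ S) (hf : f = 𝟙 S) (W : F.obj ⟨op S⟩) :
    ∃ e : (FibSite.invImage F f).obj W ⟶ W, (ι F S).map e = cart W f ∧ IsIso e := by
  subst hf
  obtain ⟨e, he⟩ := exists_ι_map (cart W (𝟙 S)) rfl
  obtain ⟨φ, hφ⟩ := fac (R := S) (V := W) (U := W) (𝟙 ((ι F S).obj W))
  change W ⟶ (FibSite.invImage F (𝟙 S)).obj W at φ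
  have h : φ ≫ e = 𝟙 W := ι_map_injective (((ι F S).map_comp φ e).trans
    (((congrArg (_ ≫ ·) he).trans hφ).trans ((ι F S).map_id W).symm))
  refine ⟨e, he, φ, ι_comp_cart_injective (𝟙 S) ?_, h⟩
  rw [Functor.map_comp, Category.assoc, CategoryTheory.Functor.map_id, Category.id_comp]
  exact (congrArg (_ ≫ ·) hφ).trans ((Category.comp_id _).trans he)

section

variable [∀ S : 𝒮, (ι F S).IsContinuous (J S) (FibSite.totalTopology F J)]
  [∀ S : 𝒮, (ι G S).IsContinuous (K S) (FibSite.totalTopology G K)]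
  [∀ (R S : 𝒮) (f : R ⟶ S), (FibSite.invImage F f).IsContinuous (J S) (J R)]
  [(Pseudofunctor.CoGrothendieck.map α).IsContinuous (FibSite.totalTopology G K) (FibSite.totalTopology F J)]
  (S : 𝒮) [(ι F S).IsCocontinuous (J S) (FibSite.totalTopology F J)]

theorem isSheaf_comp_of_point (b : Sheaf (J S) (Type u)) (pt : ∀ U, b.obj.obj U)
    (hpt : ∀ {U V} (f : U ⟶ V), b.obj.map f (pt U) = pt V) :
    Presieve.IsSheaf (K S) ((α.app ⟨op S⟩).toFunctor.op ⋙ b.obj) := by
  classical
  let αS := (α.app ⟨op S⟩).toFunctor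
  choose e he hiso using fun (f : S ⟶ S) (hf : f = 𝟙 S) => exists_cart_id (F := F) f hf
  have henat : ∀ (f : S ⟶ S) (hf : f = 𝟙 S) {W U : F.obj ⟨op S⟩} (a : W ⟶ U),
      (FibSite.invImage F f).map a ≫ e f hf U = e f hf W ≫ a := fun f hf W U a => by
    refine ι_map_injective ?_
    rw [Functor.map_comp, Functor.map_comp, he, he]
    exact (cart_naturality f a).symm
  let c := (FibSite.coextend F J (Type u) S).obj b
  let Q : (G.obj ⟨op S⟩)ᵒᵖ ⥤ Type u := ((FibSite.restr G K (Type u) S).obj
    (((Pseudofunctor.CoGrothendieck.map α).sheafPushforwardContinuous (Type u) (FibSite.totalTopology G K)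
      (FibSite.totalTopology F J)).obj c)).obj
  let ε := (((ι F S).sheafAdjunctionCocontinuous (Type u) (J S) (FibSite.totalTopology F J)).counit.app b).hom
  let r : Q ⟶ αS.op ⋙ b.obj :=
    { app := fun U => ε.app (op (αS.obj U.unop))
      naturality := fun U V φ => by
        ext z
        refine (congrArg (fun q => ε.app _ (c.obj.map q.op z)) (map_ι_map α φ.unop)).trans ?_
        exact NatTrans.naturality_apply ε (αS.map φ.unop).op z }
  have hB := fun (W : F.obj ⟨op S⟩) => proj_bijective (i := S) (j := S) b (op W)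
  let fam := fun (W : F.obj ⟨op S⟩) (y : b.obj.obj (op W)) (f : S ⟶ S) =>
    if hf : f = 𝟙 S then b.obj.map (e f hf W).op y else pt (op ((FibSite.invImage F f).obj W))
  let s₀ := fun (W : F.obj ⟨op S⟩) (y : b.obj.obj (op W)) => (Equiv.ofBijective _ (hB W)).symm (fam W y)
  have hs₀ : ∀ W y f, (proj f b).hom.app (op W) (s₀ W y) = fam W y f :=
    fun W y f => congrFun ((Equiv.ofBijective _ (hB W)).apply_symm_apply (fam W y)) f
  have hnat : ∀ {W U : F.obj ⟨op S⟩} (a : W ⟶ U) (y : b.obj.obj (op U)),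
      s₀ W (b.obj.map a.op y) = c.obj.map ((ι F S).map a).op (s₀ U y) := by
    intro W U a y
    refine (hB W).1 (funext fun f => ?_)
    refine (hs₀ W _ f).trans (Eq.trans ?_ (NatTrans.naturality_apply (proj f b).hom a.op (s₀ U y)).symm)
    refine Eq.trans ?_ (congrArg (b.obj.map ((FibSite.invImage F f).map a).op) (hs₀ U y f).symm)
    by_cases hf : f = 𝟙 S
    · simp only [fam, dif_pos hf]
      rw [← Functor.map_comp_apply, ← Functor.map_comp_apply, ← op_comp, ← op_comp, henat]
    · simp only [fam, dif_neg hf]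
      exact (hpt _).symm
  let s : αS.op ⋙ b.obj ⟶ Q :=
    { app := fun U => ↾(fun y => s₀ (αS.obj U.unop) y)
      naturality := fun U V φ => by
        ext y
        refine (hnat (αS.map φ.unop) y).trans ?_
        exact (congrArg (fun q => c.obj.map q.op (s₀ (αS.obj U.unop) y)) (map_ι_map α φ.unop)).symm }
  refine isSheaf_of_retract s r (fun U y => ?_) ((isSheaf_iff_isSheaf_of_type _ _).1 ((FibSite.restr G K (Type u) S).obj _).property)
  haveI := hiso (𝟙 S) rfl (αS.obj U.unop)
  refine ((isIso_iff_bijective _).1 (inferInstance : IsIso (b.obj.map (e (𝟙 S) rfl (αS.obj U.unop)).op))).1 ?_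
  refine (NatTrans.naturality_apply ε (e (𝟙 S) rfl (αS.obj U.unop)).op (s₀ (αS.obj U.unop) y)).symm.trans ?_
  refine (congrArg (fun q => ε.app _ (c.obj.map q.op (s₀ (αS.obj U.unop) y))) (he (𝟙 S) rfl (αS.obj U.unop))).trans ?_
  refine (hs₀ (αS.obj U.unop) y (𝟙 S)).trans ?_
  exact dif_pos rfl

/-- The fibre components are continuous. -/
theorem continuous_app_of_map : (α.app ⟨op S⟩).toFunctor.IsContinuous (K S) (J S) := by
  refine ⟨fun b => ?_⟩
  obtain ⟨Q, R, q, r, i, a, c, hq, hr, hc, hi, hloc⟩ := exists_locus b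
  exact isSheaf_of_locus (Functor.whiskerLeft (α.app ⟨op S⟩).toFunctor.op i.hom)
    (Functor.whiskerLeft (α.app ⟨op S⟩).toFunctor.op a.hom) (fun U => c _) (fun f => hc _) (fun U => hi _)
    (fun U => hloc _) (isSheaf_comp_of_point α S Q q hq) (isSheaf_comp_of_point α S R r hr)

end

end Groth.Agent.FibSite16
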