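import Mathlib.CategoryTheory.Sites.LeftExact
import Mathlib.CategoryTheory.Sites.LocallyBijective
import Mathlib.CategoryTheory.Sites.Localization
import Mathlib.CategoryTheory.Sites.Limits
import Mathlib.CategoryTheory.Limits.Types.Pullbacks
import Mathlib.CategoryTheory.Limits.FunctorCategory.Shapes.Pullbacks
import Mathlib.CategoryTheory.Limits.Shapes.Products
import Mathlib.CategoryTheory.Sites.EpiMono

/-! Coproducts of sheaves of sets commute with pullbacks and reflect them. -/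

set_option autoImplicit false

universe u

open CategoryTheory CategoryTheory.Limits Opposite

namespace Groth.Agent.FibSite16.SigmaSheaf

variable {C : Type u} [SmallCategory C] {J : GrothendieckTopology C} {ι : Type u}

/-- The sectionwise disjoint union. -/
def sigmaPre (P : ι → Cᵒᵖ ⥤ Type u) : Cᵒᵖ ⥤ Type u where
  obj U := Σ i, (P i).obj U
  map φ := ↾(fun x => ⟨x.1, (P x.1).map φ x.2⟩)
  map_id U := by
    apply ConcreteCategory.hom_ext
    rintro ⟨i, x⟩
    show (⟨i, (P i).map (𝟙 U) x⟩ : Σ j, (P j).obj U) = ⟨i, x⟩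
    simp
  map_comp {U V W} φ ψ := by
    apply ConcreteCategory.hom_ext
    rintro ⟨i, x⟩
    show (⟨i, (P i).map (φ ≫ ψ) x⟩ : Σ j, (P j).obj W) = ⟨i, (P i).map ψ ((P i).map φ x)⟩
    simp

/-- The inclusion of a component. -/
def incl (P : ι → Cᵒᵖ ⥤ Type u) (i : ι) : P i ⟶ sigmaPre P where
  app U := ↾(fun x => ⟨i, x⟩)

/-- Functoriality of the disjoint union. -/
def sigmaMap {P Q : ι → Cᵒᵖ ⥤ Type u} (f : ∀ i, P i ⟶ Q i) : sigmaPre P ⟶ sigmaPre Q where
  app U := ↾(fun x => ⟨x.1, (f x.1).app U x.2⟩)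
  naturality U V φ := by ext ⟨i, x⟩; exact congrArg (Sigma.mk i) (NatTrans.naturality_apply (f i) φ x)

theorem incl_sigmaMap {P Q : ι → Cᵒᵖ ⥤ Type u} (f : ∀ i, P i ⟶ Q i) (i : ι) :
    incl P i ≫ sigmaMap f = f i ≫ incl Q i := rfl

theorem sigmaMap_comp {P Q R : ι → Cᵒᵖ ⥤ Type u} (f : ∀ i, P i ⟶ Q i) (g : ∀ i, Q i ⟶ R i) :
    sigmaMap f ≫ sigmaMap g = sigmaMap (fun i => f i ≫ g i) := rfl

/-- The descent out of the disjoint union. -/
def sigmaDesc {P : ι → Cᵒᵖ ⥤ Type u} {Q : Cᵒᵖ ⥤ Type u} (g : ∀ i, P i ⟶ Q) : sigmaPre P ⟶ Q where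
  app U := ↾(fun x => (g x.1).app U x.2)
  naturality U V φ := by ext ⟨i, x⟩; exact NatTrans.naturality_apply (g i) φ x

theorem sigma_hom_ext {P : ι → Cᵒᵖ ⥤ Type u} {Q : Cᵒᵖ ⥤ Type u} {g g' : sigmaPre P ⟶ Q}
    (h : ∀ i, incl P i ≫ g = incl P i ≫ g') : g = g' := by
  ext U ⟨i, x⟩
  exact ConcreteCategory.congr_hom (NatTrans.congr_app (h i) U) x

/-- The coproduct in sheaves. -/
noncomputable def shSigma (b : ι → Sheaf J (Type u)) : Sheaf J (Type u) :=
  (presheafToSheaf J (Type u)).obj (sigmaPre (fun i => (b i).obj))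

/-- The inclusion in the coproduct of sheaves. -/
noncomputable def shIncl (b : ι → Sheaf J (Type u)) (i : ι) : b i ⟶ shSigma b :=
  ⟨incl (fun i => (b i).obj) i ≫ toSheafify J _⟩

/-- The cofan. -/
noncomputable abbrev shCofan (b : ι → Sheaf J (Type u)) : Cofan b := Cofan.mk (shSigma b) (shIncl b)

/-- It is a coproduct. -/
noncomputable def isColimit (b : ι → Sheaf J (Type u)) : IsColimit (shCofan b) :=
  Cofan.IsColimit.mk _
    (fun p => ((sheafificationAdjunction J (Type u)).homEquiv _ _).symm (sigmaDesc fun i => (p.inj i).hom))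
    (fun p i => by
      apply Sheaf.hom_ext
      show (incl _ i ≫ toSheafify J _) ≫ _ = _
      rw [Category.assoc]
      have h := ((sheafificationAdjunction J (Type u)).homEquiv _ _).apply_symm_apply
        (sigmaDesc fun i => (p.inj i).hom)
      rw [Adjunction.homEquiv_unit] at h
      exact (congrArg (incl (fun i => (b i).obj) i ≫ ·) h).trans rfl)
    (fun p m hm => by
      apply ((sheafificationAdjunction J (Type u)).homEquiv _ _).injective
      rw [Equiv.apply_symm_apply, Adjunction.homEquiv_unit]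
      refine sigma_hom_ext fun i => ?_
      exact ((Category.assoc _ _ _).symm.trans (congrArg (fun t => t.hom) (hm i))).trans rfl)

/-- The map of coproducts of sheaves. -/
noncomputable def shMap {b b' : ι → Sheaf J (Type u)} (f : ∀ i, b i ⟶ b' i) : shSigma b ⟶ shSigma b' :=
  (presheafToSheaf J (Type u)).map (sigmaMap fun i => (f i).hom)

theorem shIncl_map {b b' : ι → Sheaf J (Type u)} (f : ∀ i, b i ⟶ b' i) (i : ι) :
    shIncl b i ≫ shMap f = f i ≫ shIncl b' i := by
  apply Sheaf.hom_ext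
  show (incl (fun i => (b i).obj) i ≫ toSheafify J _) ≫ ((presheafToSheaf J (Type u)).map (sigmaMap fun i => (f i).hom)).hom
      = (f i).hom ≫ incl (fun i => (b' i).obj) i ≫ toSheafify J _
  refine (Category.assoc _ _ _).trans ((congrArg (incl (fun i => (b i).obj) i ≫ ·) (toSheafify_naturality J (sigmaMap fun i => (f i).hom)).symm).trans ?_)
  exact (Category.assoc _ _ _).symm.trans ((congrArg (· ≫ toSheafify J _) (incl_sigmaMap (fun i => (f i).hom) i)).trans (Category.assoc _ _ _))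

variable {W X Y Z : ι → Sheaf J (Type u)} {f : ∀ i, W i ⟶ X i} {g : ∀ i, W i ⟶ Y i}
  {h : ∀ i, X i ⟶ Z i} {k : ∀ i, Y i ⟶ Z i}

theorem isPullback_shMap (H : ∀ i, IsPullback (f i) (g i) (h i) (k i)) :
    IsPullback (shMap f) (shMap g) (shMap h) (shMap k) := by
  refine IsPullback.map (presheafToSheaf J (Type u)) ?_
  refine IsPullback.of_forall_isPullback_app fun U => ?_
  have H' := fun i => ((H i).map (sheafToPresheaf J (Type u))).app U
  rw [Types.isPullback_iff]
  refine ⟨?_, ?_, ?_⟩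
  · ext ⟨i, x⟩
    exact congrArg (Sigma.mk i) (ConcreteCategory.congr_hom (H' i).w x)
  · rintro ⟨i, x⟩ ⟨i', x'⟩ ⟨e₁, e₂⟩
    obtain rfl : i = i' := congrArg Sigma.fst e₁
    exact congrArg (Sigma.mk i) (Types.ext_of_isPullback (H' i) (eq_of_heq (Sigma.mk.inj_iff.1 e₁).2)
      (eq_of_heq (Sigma.mk.inj_iff.1 e₂).2))
  · rintro ⟨i, x⟩ ⟨i', y⟩ e
    obtain rfl : i = i' := congrArg Sigma.fst e
    obtain ⟨w, hw₁, hw₂⟩ := Types.exists_of_isPullback (H' i) x y (eq_of_heq (Sigma.mk.inj_iff.1 e).2)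
    exact ⟨⟨i, w⟩, congrArg (Sigma.mk i) hw₁, congrArg (Sigma.mk i) hw₂⟩

theorem isPullback_of_shMap (w : ∀ i, f i ≫ h i = g i ≫ k i)
    (H : IsPullback (shMap f) (shMap g) (shMap h) (shMap k)) (i : ι) : IsPullback (f i) (g i) (h i) (k i) := by
  let u := fun j => pullback.lift (f j) (g j) (w j)
  have hP := isPullback_shMap (f := fun j => pullback.fst (h j) (k j)) (g := fun j => pullback.snd (h j) (k j))
    (fun j => IsPullback.of_hasPullback (h j) (k j))
  have e1 : shMap u ≫ shMap (fun j => pullback.fst (h j) (k j)) = shMap f := by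
    refine (Functor.map_comp _ _ _).symm.trans ?_
    exact congrArg (fun t => (presheafToSheaf J (Type u)).map (sigmaMap t))
      (funext fun j => congrArg (fun t => t.hom) (pullback.lift_fst (f j) (g j) (w j)))
  have e2 : shMap u ≫ shMap (fun j => pullback.snd (h j) (k j)) = shMap g := by
    refine (Functor.map_comp _ _ _).symm.trans ?_
    exact congrArg (fun t => (presheafToSheaf J (Type u)).map (sigmaMap t))
      (funext fun j => congrArg (fun t => t.hom) (pullback.lift_snd (f j) (g j) (w j)))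
  have hu : shMap u = (H.isoIsPullback _ _ hP).hom := hP.hom_ext (by simp [e1]) (by simp [e2])
  have hW : J.W (sigmaMap fun j => (u j).hom) := by
    rw [GrothendieckTopology.W_iff]
    show IsIso (shMap u)
    rw [hu]; infer_instance
  rw [GrothendieckTopology.W_iff_isLocallyBijective] at hW
  obtain ⟨hi, hs⟩ := hW
  haveI : IsIso (u i) := by
    haveI : J.HasSheafCompose (forget (Type u)) := inferInstance
    refine (Sheaf.isLocallyBijective_iff_isIso (A := Type u) (u i)).1 ?_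
    refine ⟨⟨fun {U} x y hxy => ?_⟩, ⟨fun {U} s => ?_⟩⟩
    · refine J.superset_covering ?_ (Presheaf.equalizerSieve_mem J (sigmaMap fun j => (u j).hom)
        (X := U) (⟨i, x⟩ : Σ j, (W j).obj.obj U) ⟨i, y⟩ (congrArg (Sigma.mk i) hxy))
      intro V φ hφ
      exact eq_of_heq (Sigma.mk.inj_iff.1 hφ).2
    · refine J.superset_covering ?_ (Presheaf.imageSieve_mem J (sigmaMap fun j => (u j).hom)
        (U := op U) (⟨i, s⟩ : Σ j, (pullback (h j) (k j)).obj.obj (op U)))
      rintro V φ ⟨⟨j, t⟩, ht⟩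
      obtain rfl : j = i := congrArg Sigma.fst ht
      exact ⟨t, eq_of_heq (Sigma.mk.inj_iff.1 ht).2⟩
  exact IsPullback.of_iso_pullback ⟨w i⟩ (asIso (u i)) (pullback.lift_fst _ _ _) (pullback.lift_snd _ _ _)

/-- Transport to arbitrary coproducts. -/
theorem isPullback_iff {cW : Cofan W} {cX : Cofan X} {cY : Cofan Y} {cZ : Cofan Z}
    (hW : IsColimit cW) (hX : IsColimit cX) (hY : IsColimit cY) (hZ : IsColimit cZ)
    {F : cW.pt ⟶ cX.pt} {G : cW.pt ⟶ cY.pt} {H : cX.pt ⟶ cZ.pt} {K : cY.pt ⟶ cZ.pt}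
    (eF : ∀ i, cW.inj i ≫ F = f i ≫ cX.inj i) (eG : ∀ i, cW.inj i ≫ G = g i ≫ cY.inj i)
    (eH : ∀ i, cX.inj i ≫ H = h i ≫ cZ.inj i) (eK : ∀ i, cY.inj i ≫ K = k i ≫ cZ.inj i)
    (w : ∀ i, f i ≫ h i = g i ≫ k i) :
    IsPullback F G H K ↔ ∀ i, IsPullback (f i) (g i) (h i) (k i) := by
  let iso := fun {b : ι → Sheaf J (Type u)} {c : Cofan b} (hc : IsColimit c) =>
    IsColimit.coconePointUniqueUpToIso hc (isColimit b)
  have hinj : ∀ {b : ι → Sheaf J (Type u)} {c : Cofan b} (hc : IsColimit c) (i : ι),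
      c.inj i ≫ (iso hc).hom = shIncl b i := fun hc i => IsColimit.comp_coconePointUniqueUpToIso_hom hc _ ⟨i⟩
  have hcomm : ∀ {b b' : ι → Sheaf J (Type u)} {c : Cofan b} {c' : Cofan b'} (hc : IsColimit c)
      (hc' : IsColimit c') (φ : ∀ i, b i ⟶ b' i) (Φ : c.pt ⟶ c'.pt),
      (∀ i, c.inj i ≫ Φ = φ i ≫ c'.inj i) → Φ ≫ (iso hc').hom = (iso hc).hom ≫ shMap φ := by
    intro b b' c c' hc hc' φ Φ he
    refine Cofan.IsColimit.hom_ext hc _ _ fun i => ?_
    rw [← Category.assoc, he, Category.assoc, hinj hc', ← Category.assoc, hinj hc, shIncl_map]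
  have key : IsPullback F G H K ↔ IsPullback (shMap f) (shMap g) (shMap h) (shMap k) :=
    ⟨fun hp => hp.of_iso (iso hW) (iso hX) (iso hY) (iso hZ) (hcomm hW hX f F eF) (hcomm hW hY g G eG)
      (hcomm hX hZ h H eH) (hcomm hY hZ k K eK),
     fun hp => hp.of_iso (iso hW).symm (iso hX).symm (iso hY).symm (iso hZ).symm
      (by simp only [Iso.symm_hom, Iso.comp_inv_eq, Category.assoc, hcomm hW hX f F eF, Iso.inv_hom_id_assoc])
      (by simp only [Iso.symm_hom, Iso.comp_inv_eq, Category.assoc, hcomm hW hY g G eG, Iso.inv_hom_id_assoc])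
      (by simp only [Iso.symm_hom, Iso.comp_inv_eq, Category.assoc, hcomm hX hZ h H eH, Iso.inv_hom_id_assoc])
      (by simp only [Iso.symm_hom, Iso.comp_inv_eq, Category.assoc, hcomm hY hZ k K eK, Iso.inv_hom_id_assoc])⟩
  rw [key]
  exact ⟨fun hp => isPullback_of_shMap w hp, isPullback_shMap⟩

end Groth.Agent.FibSite16.SigmaSheaf
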