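import Groth.Agent.FibSite16.MapSitesContinuous
import Groth.Agent.FibSite16.SigmaSheaf
import Mathlib.CategoryTheory.Limits.Constructions.LimitsOfProductsAndEqualizers
import Mathlib.CategoryTheory.Limits.Preserves.Shapes.Terminal

/-! If the induced functor of total sites is a morphism of sites, so is every fibre component. -/

set_option autoImplicit false
set_option backward.isDefEq.respectTransparency false
set_option backward.isDefEq.respectTransparency.types false

universe u

open CategoryTheory Opposite Pseudofunctor Pseudofunctor.CoGrothendieck CategoryTheory.Functor CategoryTheory.Limits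
open scoped CategoryTheory.Pseudofunctor.StrongTrans

namespace Groth.Agent.FibSite16

section Extend

variable {𝒮 : Type u} [SmallCategory 𝒮] {F : Pseudofunctor (LocallyDiscrete 𝒮ᵒᵖ) Cat.{u, u}}
  {J : FibSite.Topologies F}
  [∀ S : 𝒮, (ι F S).IsContinuous (J S) (FibSite.totalTopology F J)]
  [∀ (R S : 𝒮) (f : R ⟶ S), (FibSite.invImage F f).IsContinuous (J S) (J R)]

/-- The inverse image along an identity is the identity. -/
noncomputable def invImageIdIso (S : 𝒮) : FibSite.invImage F (𝟙 S) ≅ 𝟭 _ :=
  NatIso.ofComponents
    (fun W => @asIso _ _ _ _ _ (exists_cart_id (F := F) (𝟙 S) rfl W).choose_spec.2)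
    (fun {W U} a => by
      refine ι_map_injective ?_
      show (ι F S).map ((FibSite.invImage F (𝟙 S)).map a ≫ (exists_cart_id (F := F) (𝟙 S) rfl U).choose) =
        (ι F S).map ((exists_cart_id (F := F) (𝟙 S) rfl W).choose ≫ a)
      rw [Functor.map_comp, Functor.map_comp, (exists_cart_id (F := F) (𝟙 S) rfl U).choose_spec.1,
        (exists_cart_id (F := F) (𝟙 S) rfl W).choose_spec.1]
      exact (cart_naturality (𝟙 S) a).symm)

/-- The inverse image of sheaves along an identity is the identity. -/
noncomputable def sheafPullbackIdIso (S : 𝒮) :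
    (FibSite.invImage F (𝟙 S)).sheafPullback (Type u) (J S) (J S) ≅ 𝟭 _ :=
  (((FibSite.invImage F (𝟙 S)).sheafAdjunctionContinuous (Type u) (J S) (J S)).ofNatIsoRight
    (Functor.sheafPushforwardContinuousId' (invImageIdIso S) _ _)).leftAdjointUniq Adjunction.id

variable {i : 𝒮} {W X Y Z : Sheaf (J i) (Type u)} {f : W ⟶ X} {g : W ⟶ Y} {h : X ⟶ Z} {k : Y ⟶ Z}

theorem isPullback_restr_extend_iff (hF : FibSite.IsPreFibSite F J) (w : f ≫ h = g ≫ k) (j : 𝒮) :
    IsPullback ((FibSite.restr F J (Type u) j).map ((FibSite.extend F J (Type u) i).map f))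
      ((FibSite.restr F J (Type u) j).map ((FibSite.extend F J (Type u) i).map g))
      ((FibSite.restr F J (Type u) j).map ((FibSite.extend F J (Type u) i).map h))
      ((FibSite.restr F J (Type u) j).map ((FibSite.extend F J (Type u) i).map k)) ↔
    ∀ φ : j ⟶ i, IsPullback (((FibSite.invImage F φ).sheafPullback (Type u) (J i) (J j)).map f)
      (((FibSite.invImage F φ).sheafPullback (Type u) (J i) (J j)).map g)
      (((FibSite.invImage F φ).sheafPullback (Type u) (J i) (J j)).map h)
      (((FibSite.invImage F φ).sheafPullback (Type u) (J i) (J j)).map k) :=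
  SigmaSheaf.isPullback_iff (exists_isColimit_cofan hF W).some (exists_isColimit_cofan hF X).some
    (exists_isColimit_cofan hF Y).some (exists_isColimit_cofan hF Z).some
    (fun φ => ((injNat φ).naturality f).symm) (fun φ => ((injNat φ).naturality g).symm)
    (fun φ => ((injNat φ).naturality h).symm) (fun φ => ((injNat φ).naturality k).symm)
    (fun φ => by rw [← Functor.map_comp, ← Functor.map_comp, w])

theorem isPullback_of_restr {W X Y Z : FibSite.TotSh F J (Type u)} {f : W ⟶ X} {g : W ⟶ Y} {h : X ⟶ Z} {k : Y ⟶ Z}
    (w : f ≫ h = g ≫ k) (H : ∀ j, IsPullback ((FibSite.restr F J (Type u) j).map f)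
      ((FibSite.restr F J (Type u) j).map g) ((FibSite.restr F J (Type u) j).map h)
      ((FibSite.restr F J (Type u) j).map k)) : IsPullback f g h k :=
  IsPullback.of_map (sheafToPresheaf (FibSite.totalTopology F J) (Type u)) w
    (IsPullback.of_forall_isPullback_app fun U =>
      (((H U.unop.base).map (sheafToPresheaf (J U.unop.base) (Type u))).app (op U.unop.fiber) :))

theorem isPullback_extend (hF : FibSite.IsFibSite F J) (H : IsPullback f g h k) :
    IsPullback ((FibSite.extend F J (Type u) i).map f) ((FibSite.extend F J (Type u) i).map g)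
      ((FibSite.extend F J (Type u) i).map h) ((FibSite.extend F J (Type u) i).map k) := by
  refine isPullback_of_restr (by rw [← Functor.map_comp, ← Functor.map_comp, H.w]) fun j =>
    (isPullback_restr_extend_iff hF.isPreFibSite H.w j).2 fun φ => ?_
  obtain ⟨_, _, hlex⟩ := hF φ
  haveI := hlex
  exact H.map _

theorem isPullback_of_extend (hF : FibSite.IsPreFibSite F J) (w : f ≫ h = g ≫ k)
    (H : IsPullback ((FibSite.extend F J (Type u) i).map f) ((FibSite.extend F J (Type u) i).map g)
      ((FibSite.extend F J (Type u) i).map h) ((FibSite.extend F J (Type u) i).map k)) :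
    IsPullback f g h k := by
  haveI : PreservesLimitsOfShape WalkingCospan (FibSite.restr F J (Type u) i) :=
    ((ι F i).sheafAdjunctionContinuous (Type u) (J i) (FibSite.totalTopology F J)).rightAdjoint_preservesLimits.preservesLimitsOfShape
  have h1 := (isPullback_restr_extend_iff hF w i).1 (H.map (FibSite.restr F J (Type u) i)) (𝟙 i)
  let e := sheafPullbackIdIso (F := F) (J := J) i
  exact h1.of_iso (e.app W) (e.app X) (e.app Y) (e.app Z) (e.hom.naturality f) (e.hom.naturality g)
    (e.hom.naturality h) (e.hom.naturality k)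

end Extend

variable {𝒮 : Type u} [SmallCategory 𝒮] {F G : Pseudofunctor (LocallyDiscrete 𝒮ᵒᵖ) Cat.{u, u}}
  {J : FibSite.Topologies F} {K : FibSite.Topologies G} (α : G ⟶ F)

theorem preservesFiniteLimits_app_of_map (hF : FibSite.IsPreFibSite F J) (hG : FibSite.IsFibSite G K)
    [∀ S : 𝒮, (α.app ⟨op S⟩).toFunctor.IsContinuous (K S) (J S)]
    [(Pseudofunctor.CoGrothendieck.map α).IsContinuous (FibSite.totalTopology G K) (FibSite.totalTopology F J)]
    (hα : PreservesFiniteLimits ((Pseudofunctor.CoGrothendieck.map α).sheafPullback (Type u)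
      (FibSite.totalTopology G K) (FibSite.totalTopology F J))) (S : 𝒮) :
    PreservesFiniteLimits ((α.app ⟨op S⟩).toFunctor.sheafPullback (Type u) (K S) (J S)) := by
  haveI : ∀ S, (ι F S).IsContinuous (J S) (FibSite.totalTopology F J) := fun S => continuous hF S
  haveI : ∀ S, (ι G S).IsContinuous (K S) (FibSite.totalTopology G K) := fun S => continuous hG.isPreFibSite S
  haveI : ∀ (R S : 𝒮) (f : R ⟶ S), (FibSite.invImage F f).IsContinuous (J S) (J R) := fun R S f => hF f
  haveI : ∀ (R S : 𝒮) (f : R ⟶ S), (FibSite.invImage G f).IsContinuous (K S) (K R) :=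
    fun R S f => hG.isPreFibSite f
  haveI := cocontinuous hF S
  haveI := cocontinuous hG.isPreFibSite S
  haveI := isIso_coextMap (J := J) (K := K) α S
  haveI := hα
  let L := (α.app ⟨op S⟩).toFunctor.sheafPullback (Type u) (K S) (J S)
  let Φ := (Pseudofunctor.CoGrothendieck.map α).sheafPullback (Type u) (FibSite.totalTopology G K)
    (FibSite.totalTopology F J)
  haveI : IsIso (restrMap (J := J) (K := K) α S) := by
    haveI : ∀ X, IsIso ((restrMap (J := J) (K := K) α S).app X) := fun X => by
      haveI : ∀ U, IsIso (((restrMap (J := J) (K := K) α S).app X).hom.app U) := fun U =>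
        (isIso_iff_bijective _).2 Function.bijective_id
      haveI : IsIso ((sheafToPresheaf (K S) (Type u)).map ((restrMap (J := J) (K := K) α S).app X)) := by
        show IsIso ((restrMap (J := J) (K := K) α S).app X).hom
        exact NatIso.isIso_of_isIso_app _
      exact isIso_of_reflects_iso _ (sheafToPresheaf (K S) (Type u))
    exact NatIso.isIso_of_isIso_app _
  let Λ : FibSite.extend G K (Type u) S ⋙ Φ ≅ L ⋙ FibSite.extend F J (Type u) S :=
    (((ι G S).sheafAdjunctionContinuous (Type u) (K S) (FibSite.totalTopology G K)).comp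
        ((Pseudofunctor.CoGrothendieck.map α).sheafAdjunctionContinuous (Type u) (FibSite.totalTopology G K)
          (FibSite.totalTopology F J))).leftAdjointUniq
      ((((α.app ⟨op S⟩).toFunctor.sheafAdjunctionContinuous (Type u) (K S) (J S)).comp
        ((ι F S).sheafAdjunctionContinuous (Type u) (J S) (FibSite.totalTopology F J))).ofNatIsoRight
          (asIso (restrMap (J := J) (K := K) α S)).symm)
  haveI hP : PreservesLimitsOfShape WalkingCospan L := by
    refine preservesLimitsOfShape_walkingCospan_of_forall_isPullback (F := L) fun X Y Z p q _ => ?_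
    refine ⟨_, _, _, IsPullback.of_hasPullback p q, isPullback_of_extend hF
      (by rw [← Functor.map_comp, ← Functor.map_comp, pullback.condition]) ?_⟩
    exact ((isPullback_extend hG (IsPullback.of_hasPullback p q)).map Φ).of_iso
      (Λ.app _) (Λ.app _) (Λ.app _) (Λ.app _) (Λ.hom.naturality _) (Λ.hom.naturality _) (Λ.hom.naturality _)
      (Λ.hom.naturality _)
  haveI : PreservesLimitsOfShape (Discrete.{0} PEmpty) L := by
    haveI : PreservesLimitsOfShape (Discrete.{0} PEmpty) (FibSite.restr G K (Type u) S) :=
      ((ι G S).sheafAdjunctionContinuous (Type u) (K S) (FibSite.totalTopology G K)).rightAdjoint_preservesLimits.preservesLimitsOfShape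
    haveI : PreservesLimitsOfShape (Discrete.{0} PEmpty) (FibSite.restr F J (Type u) S) :=
      ((ι F S).sheafAdjunctionContinuous (Type u) (J S) (FibSite.totalTopology F J)).rightAdjoint_preservesLimits.preservesLimitsOfShape
    haveI : PreservesLimitsOfShape (Discrete.{0} PEmpty) Φ := inferInstance
    haveI := preservesTerminal_of_iso L (L.mapIso (PreservesTerminal.iso (FibSite.restr G K (Type u) S)).symm ≪≫
      (pullbackRestrIso (J := J) (K := K) α S).app _ ≪≫
      (FibSite.restr F J (Type u) S).mapIso (PreservesTerminal.iso Φ) ≪≫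
      PreservesTerminal.iso (FibSite.restr F J (Type u) S))
    exact preservesLimitsOfShape_pempty_of_preservesTerminal L
  exact preservesFiniteLimits_of_preservesTerminal_and_pullbacks L

end Groth.Agent.FibSite16
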